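import Mathlib
import Cfsg.Agent.H672.RM.Cliff
import Cfsg.Agent.H597.FrobC
import Cfsg.Agent.H597.IndexP
import Cfsg.Agent.CharactersDeep.ExtUnique
import Cfsg.Agent.S0135
import Cfsg.Agent.S0867
set_option linter.all false

/-!
# Clifford theory for subgroups of an ambient group

`K ≤ U` subgroups of `G`, `U` in the normalizer of `K`, `θ ∈ Irr K`, `T` the stabilizer of `θ` in `U`
(`Inert K T U θ`): Clifford correspondence, Gallagher's theorem, extension for coprime index, and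
`central_of_inv`: if all `ψ ∈ Irr N` over an extendible `μ ∈ Irr J` are `G`-invariant and `N / J` is
abelian, then `T / J` is central in `G / J`.
-/

set_option autoImplicit false
set_option linter.style.haveILetI false
set_option linter.unusedSectionVars false
open Cfsg

namespace Cfsg.Agent.H675.Nd

open Cfsg.Agent.Characters.Core Cfsg.Agent.Characters.Clifford Cfsg.Agent.H672 Cfsg.Agent.H672.RM
open Cfsg.Agent.OddOrderCharacters
open scoped ComplexConjugate commutatorElement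

universe u v

/-- Transport of `Over` along isomorphisms. -/
theorem over_congr {G₁ G₂ H₁ H₂ : Type*} [Group G₁] [Group G₂] [Group H₁] [Group H₂]
    [Finite G₂] [Finite H₁] [Finite H₂] (e : G₁ ≃* G₂) (e0 : H₁ ≃* H₂) (f : H₁ →* G₁) (f' : H₂ →* G₂)
    (hf : ∀ h, f' (e0 h) = e (f h)) (χ : G₂ → ℂ) (θ : H₂ → ℂ) :
    Over f (χ ∘ e) (θ ∘ e0) ↔ Over f' χ θ := by
  rw [← over_comp_equiv f' e0]
  have e1 : (f'.comp e0.toMonoidHom) = e.toMonoidHom.comp f := by ext h; exact hf h
  rw [e1]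
  rfl

/-- If the induced character is irreducible, it is the only one over `η`. -/
theorem eq_indFun_of_over {G : Type u} [Group G] [Fintype G] (T : Subgroup G) {η : T → ℂ}
    (hi : IsIrrCharacter G (indFun T η)) {ψ : G → ℂ} (hψ : IsIrrCharacter G ψ)
    (ho : Over T.subtype ψ η) : ψ = indFun T η := by
  classical
  letI := Fintype.ofFinite T
  by_contra hne
  have h4 := classInner_irr_ne hψ hi hne
  rw [IndRes.classInner_indFun_right T η (isIrr_isClassFunction hψ)] at h4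
  exact (over_res ψ η).1 ho h4

section cliff

variable {G : Type u} [Group G] [Finite G] {K T U : Subgroup G} {θ : K → ℂ}

/-- `T` is the stabilizer in `U` of the irreducible character `θ` of `K`. -/
structure Inert (K T U : Subgroup G) (θ : K → ℂ) : Prop where
  le : K ≤ U
  nrm : U ≤ Subgroup.normalizer (K : Set G)
  irr : IsIrrCharacter K θ
  eq : T = U ⊓ stab θ

theorem Inert.KT (h : Inert K T U θ) : K ≤ T := by
  rw [h.eq]; exact le_inf h.le (le_stab (isIrr_isClassFunction h.irr))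

theorem Inert.TU (h : Inert K T U θ) : T ≤ U := by
  rw [h.eq]; exact inf_le_left

theorem Inert.Tstab (h : Inert K T U θ) : T ≤ stab θ := by
  rw [h.eq]; exact inf_le_right

theorem Inert.inertia_eq (h : Inert K T U θ) :
    haveI := normal_subgroupOf h.nrm
    T.subgroupOf U = inertia (K.subgroupOf U) (θ ∘ Subgroup.subgroupOfEquivOfLe h.le) := by
  haveI := normal_subgroupOf h.nrm
  rw [inertia_sub h.le h.nrm]
  ext x
  rw [Subgroup.mem_subgroupOf, Subgroup.mem_subgroupOf, h.eq]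
  exact ⟨fun hx => hx.2, fun hx => ⟨x.2, hx⟩⟩

theorem Inert.over_iff (h : Inert K T U θ) (η : T → ℂ) :
    Over (Subgroup.inclusion (show K.subgroupOf U ≤ T.subgroupOf U from fun _ hx => h.KT hx))
      (η ∘ Subgroup.subgroupOfEquivOfLe h.TU) (θ ∘ Subgroup.subgroupOfEquivOfLe h.le) ↔
    Over (Subgroup.inclusion h.KT) η θ :=
  over_congr (Subgroup.subgroupOfEquivOfLe h.TU) (Subgroup.subgroupOfEquivOfLe h.le) _ _
    (fun _ => rfl) η θ

theorem Inert.over_sub_iff (h : Inert K T U θ) (ψ : U → ℂ) (η : T → ℂ) :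
    Over (T.subgroupOf U).subtype ψ (η ∘ Subgroup.subgroupOfEquivOfLe h.TU) ↔
    Over (Subgroup.inclusion h.TU) ψ η :=
  (over_iff_sub h.TU ψ η).symm

theorem Inert.irr_ind (h : Inert K T U θ) [Fintype U] {η : T → ℂ} (hη : IsIrrCharacter T η)
    (ho : Over (Subgroup.inclusion h.KT) η θ) :
    IsIrrCharacter U (indFun (T.subgroupOf U) (η ∘ Subgroup.subgroupOfEquivOfLe h.TU)) := by
  classical
  haveI := normal_subgroupOf h.nrm
  letI := Fintype.ofFinite (K.subgroupOf U)
  letI := Fintype.ofFinite (T.subgroupOf U)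
  have hT' := mem_iff_conjFn (K.subgroupOf U) (T.subgroupOf U) h.inertia_eq
  exact PF9.CliffGen.irr_ind (isIrr_sub h.le h.irr) hT' (fun _ hx => h.KT hx) (isIrr_sub h.TU hη)
    ((over_resTo _ _ _).1 ((h.over_iff η).2 ho))

/-- Clifford correspondence: from `T` to `U`. -/
theorem Inert.lift (h : Inert K T U θ) {η : T → ℂ} (hη : IsIrrCharacter T η)
    (ho : Over (Subgroup.inclusion h.KT) η θ) : ∃ ψ : U → ℂ, IsIrrCharacter U ψ ∧
      Over (Subgroup.inclusion h.TU) ψ η ∧ Over (Subgroup.inclusion h.le) ψ θ ∧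
      charDegree ψ = T.relIndex U * charDegree η := by
  classical
  letI := Fintype.ofFinite U
  letI := Fintype.ofFinite (T.subgroupOf U)
  have hi := h.irr_ind hη ho
  have h1 := over_self_indFun _ hi
  rw [h.over_sub_iff] at h1
  refine ⟨_, hi, h1, ?_, ?_⟩
  · have e : Subgroup.inclusion h.le =
        (Subgroup.inclusion h.TU).comp (Subgroup.inclusion h.KT) := rfl
    rw [e]
    exact (over_comp_iff _ _ (isIrr_isCharacter hi) h.irr).2 ⟨η, hη, h1, ho⟩
  · rw [charDegree_indFun (T.subgroupOf U) (isIrr_sub h.TU hη) rfl]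
    congr 1

/-- Clifford correspondence: from `U` to `T`. -/
theorem Inert.exists_eta (h : Inert K T U θ) {ψ : U → ℂ} (hψ : IsIrrCharacter U ψ)
    (ho : Over (Subgroup.inclusion h.le) ψ θ) : ∃ η : T → ℂ, IsIrrCharacter T η ∧
      Over (Subgroup.inclusion h.KT) η θ ∧ Over (Subgroup.inclusion h.TU) ψ η ∧
      charDegree ψ = T.relIndex U * charDegree η := by
  classical
  haveI := normal_subgroupOf h.nrm
  letI := Fintype.ofFinite U
  letI := Fintype.ofFinite (K.subgroupOf U)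
  letI := Fintype.ofFinite (T.subgroupOf U)
  have hT' := mem_iff_conjFn (K.subgroupOf U) (T.subgroupOf U) h.inertia_eq
  have hle : K.subgroupOf U ≤ T.subgroupOf U := fun _ hx => h.KT hx
  obtain ⟨η', hη', h1, h2⟩ := PF9.CliffGen.exists_ind (isIrr_sub h.le h.irr) hT' hle hψ
    ((over_res _ _).1 ((over_iff_sub h.le ψ θ).1 ho))
  let e := Subgroup.subgroupOfEquivOfLe h.TU
  have hη : IsIrrCharacter T (η' ∘ e.symm) :=
    isIrr_comp (e.symm : T →* T.subgroupOf U) e.symm.surjective hη'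
  have e1 : (η' ∘ e.symm) ∘ e = η' := by funext x; simp
  have h3 : Over (Subgroup.inclusion h.KT) (η' ∘ e.symm) θ := by
    rw [← h.over_iff]
    change Over _ ((η' ∘ e.symm) ∘ e) _
    rw [e1]
    exact (over_resTo _ _ _).2 h1
  have hi : IsIrrCharacter U (indFun (T.subgroupOf U) η') := by rw [← h2]; exact hψ
  refine ⟨η' ∘ e.symm, hη, h3, ?_, ?_⟩
  · rw [← h.over_sub_iff]
    change Over _ ψ ((η' ∘ e.symm) ∘ e)
    rw [e1, h2]
    exact over_self_indFun _ hi
  · rw [charDegree_indFun (T.subgroupOf U) hη' h2.symm]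
    congr 1

/-- Clifford correspondence: uniqueness. -/
theorem Inert.unique (h : Inert K T U θ) {η η' : T → ℂ} (hη : IsIrrCharacter T η)
    (hη' : IsIrrCharacter T η') (ho : Over (Subgroup.inclusion h.KT) η θ)
    (ho' : Over (Subgroup.inclusion h.KT) η' θ) {ψ : U → ℂ} (hψ : IsIrrCharacter U ψ)
    (h1 : Over (Subgroup.inclusion h.TU) ψ η) (h2 : Over (Subgroup.inclusion h.TU) ψ η') :
    η = η' := by
  classical
  haveI := normal_subgroupOf h.nrm
  letI := Fintype.ofFinite U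
  letI := Fintype.ofFinite (K.subgroupOf U)
  letI := Fintype.ofFinite (T.subgroupOf U)
  have hT' := mem_iff_conjFn (K.subgroupOf U) (T.subgroupOf U) h.inertia_eq
  have hle : K.subgroupOf U ≤ T.subgroupOf U := fun _ hx => h.KT hx
  have e1 := eq_indFun_of_over _ (h.irr_ind hη ho) hψ ((h.over_sub_iff ψ η).2 h1)
  have e2 := eq_indFun_of_over _ (h.irr_ind hη' ho') hψ ((h.over_sub_iff ψ η').2 h2)
  have e3 := PF9.CliffGen.ind_inj (isIrr_sub h.le h.irr) hT' hle (isIrr_sub h.TU hη)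
    (isIrr_sub h.TU hη') ((over_resTo _ _ _).1 ((h.over_iff η).2 ho))
    ((over_resTo _ _ _).1 ((h.over_iff η').2 ho')) (e1.symm.trans e2)
  exact (Subgroup.subgroupOfEquivOfLe h.TU).surjective.injective_comp_right e3

end cliff

section gal

variable {G : Type u} [Group G] [Finite G] {K T : Subgroup G} {θ : K → ℂ}

theorem range_inclusion_normal (hKT : K ≤ T) (hT : T ≤ Subgroup.normalizer (K : Set G)) :
    (Subgroup.inclusion hKT).range.Normal := by
  rw [Subgroup.inclusion_range]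
  exact normal_subgroupOf hT

/-- Restriction to `K` of an irreducible character of `T` over a `T`-invariant character. -/
theorem res_of_inv (hKT : K ≤ T) (hθ : IsIrrCharacter K θ) (hT : T ≤ stab θ) {η : T → ℂ}
    (hη : IsIrrCharacter T η) (ho : Over (Subgroup.inclusion hKT) η θ) :
    ∃ c : ℂ, c ≠ 0 ∧ ∀ k : K, η (Subgroup.inclusion hKT k) = c * θ k := by
  classical
  letI := Fintype.ofFinite K
  rw [over_iff] at ho
  have h1 := comp_eq_smul_of_invariant_hom (Subgroup.inclusion hKT)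
    (Subgroup.inclusion_injective hKT) (range_inclusion_normal hKT (hT.trans (stab_le θ))) hη hθ
    (fun k h h' hh => by
      have h2 := (hT k.2).2
      have h3 := tw_apply' (hT k.2).1 θ h h' (by
        have := congrArg (Subtype.val : T → G) hh
        simpa using this)
      rw [← h3, h2]) ho
  exact ⟨_, ho, fun k => congrFun h1 k⟩

/-- The characters of `T` over the trivial character of `K`. -/
theorem over_one_iff (hKT : K ≤ T) (hT : T ≤ Subgroup.normalizer (K : Set G)) {β : T → ℂ}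
    (hβ : IsIrrCharacter T β) :
    Over (Subgroup.inclusion hKT) β 1 ↔ ∀ k : K, β (Subgroup.inclusion hKT k) = β 1 := by
  classical
  letI := Fintype.ofFinite K
  constructor
  · intro h
    obtain ⟨c, -, hc⟩ := res_of_inv hKT isIrr_one (fun t ht => ⟨hT ht, by
      funext k
      rw [tw_apply (hT ht)]
      rfl⟩) hβ h
    intro k
    have h1 := hc 1
    rw [map_one] at h1
    rw [hc k, h1]
    rfl
  · intro h
    rw [over_iff]
    have e : β ∘ (Subgroup.inclusion hKT) = β 1 • (1 : K → ℂ) := by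
      funext k
      simp only [Function.comp, Pi.smul_apply, Pi.one_apply, smul_eq_mul, mul_one]
      exact h k
    rw [e, classInner_smul_left, classInner_irr_self isIrr_one, mul_one]
    exact isIrr_apply_one_ne_zero hβ

theorem classInner_indFun_ne_iff {G : Type u} [Group G] [Fintype G] (N : Subgroup G)
    {β : G → ℂ} (hβ : IsClassFunction G β) (φ : N → ℂ) :
    classInner (indFun N φ) β ≠ 0 ↔ Over N.subtype β φ := by
  classical
  letI := Fintype.ofFinite N
  rw [CharactersDeep.NormalInd.classInner_indFun N φ _ hβ, over_subtype_iff]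
  rw [← classInner_conj_symm]
  exact map_ne_zero _

/-- Gallagher's theorem. -/
theorem gal (hKT : K ≤ T) (hT : T ≤ Subgroup.normalizer (K : Set G)) (hθ : IsIrrCharacter K θ)
    {χ : T → ℂ} (hχ : IsIrrCharacter T χ) (hres : ∀ k : K, χ (Subgroup.inclusion hKT k) = θ k) :
    Set.BijOn (fun β : T → ℂ => β * χ)
      {β : T → ℂ | IsIrrCharacter T β ∧ ∀ k : K, β (Subgroup.inclusion hKT k) = β 1}
      {ψ : T → ℂ | IsIrrCharacter T ψ ∧ Over (Subgroup.inclusion hKT) ψ θ} := by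
  classical
  haveI := normal_subgroupOf hT
  letI := Fintype.ofFinite T
  letI := Fintype.ofFinite (K.subgroupOf T)
  let e := Subgroup.subgroupOfEquivOfLe hKT
  have hres' : ∀ n : K.subgroupOf T, χ n = (θ ∘ e) n := fun n => hres (e n)
  have key := S0856.result (K.subgroupOf T) (1 : K.subgroupOf T → ℂ) (θ ∘ e) isIrr_one
    (isIrr_sub hKT hθ) (fun g n => rfl) (fun g n => by
      rw [← hres', ← hres']
      exact isIrr_isClassFunction hχ _ _) (by rw [one_mul]; exact isIrr_sub hKT hθ) χ hχ hres'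
  have e1 : {β : T → ℂ | Cfsg.IsIrrCharacter T β ∧
      Cfsg.classInner (Cfsg.indFun (K.subgroupOf T) (1 : K.subgroupOf T → ℂ)) β ≠ 0} =
      {β : T → ℂ | IsIrrCharacter T β ∧ ∀ k : K, β (Subgroup.inclusion hKT k) = β 1} := by
    ext β
    refine and_congr_right fun hβ => ?_
    rw [← over_one_iff hKT hT hβ, classInner_indFun_ne_iff _ (isIrr_isClassFunction hβ),
      over_iff_sub hKT]
    rfl
  have e2 : {ψ : T → ℂ | Cfsg.IsIrrCharacter T ψ ∧
      Cfsg.classInner (Cfsg.indFun (K.subgroupOf T) (1 * (θ ∘ e))) ψ ≠ 0} =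
      {ψ : T → ℂ | IsIrrCharacter T ψ ∧ Over (Subgroup.inclusion hKT) ψ θ} := by
    ext ψ
    refine and_congr_right fun hψ => ?_
    rw [classInner_indFun_ne_iff _ (isIrr_isClassFunction hψ), over_iff_sub hKT, one_mul]
  rw [e1, e2] at key
  exact key

/-- Extension of an invariant character if the index is prime to the order. -/
theorem exists_ext (hKT : K ≤ T) (hθ : IsIrrCharacter K θ) (hT : T ≤ stab θ)
    (hcop : (Nat.card K).Coprime (K.relIndex T)) :
    ∃ χ : T → ℂ, IsIrrCharacter T χ ∧ ∀ k : K, χ (Subgroup.inclusion hKT k) = θ k := by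
  classical
  haveI hn := normal_subgroupOf (hT.trans (stab_le θ))
  let e := Subgroup.subgroupOfEquivOfLe hKT
  have hθ' : IsIrrCharacter (K.subgroupOf T) (θ ∘ e) := isIrr_sub hKT hθ
  have hcard : Nat.card (K.subgroupOf T) = Nat.card K := Nat.card_congr e.toEquiv
  have hdeg : (θ ∘ e) 1 = charDegree θ := by
    rw [coe_charDegree hθ]
    simp [e]
  have hd1 : charDegree θ ∣ Nat.card K := by
    obtain ⟨m, ρ, hρ, hm⟩ := hθ
    have h2 := Cfsg.Agent.S0135.result ρ
    have h3 : charDegree θ = m := by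
      apply charDegree_of_eq
      rw [← hm]; simp
    rw [h3]
    simpa using h2
  have hd2 : detOrder (θ ∘ e) ∣ Nat.card K := by
    obtain ⟨δ, hδ⟩ := Cfsg.Agent.CharactersDeep.ExtUnique.exists_hom_detChar hθ'
    rw [← hcard]
    show orderOf (detChar (θ ∘ e)) ∣ _
    apply orderOf_dvd_of_pow_eq_one
    funext g
    rw [Pi.pow_apply, hδ, ← Units.val_pow_eq_pow_val, ← map_pow, pow_card_eq_one']
    simp
  obtain ⟨χ, ⟨hχ, hχ', -⟩, -⟩ := Cfsg.Agent.S0867.result (K.subgroupOf T) (θ ∘ e) hθ' (fun g n => by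
      have h1 := tw_apply' (hT g.2).1 θ (e n)
        (e ⟨g * n * g⁻¹, hn.conj_mem (n : T) n.2 g⟩) (by simp [e])
      rw [(hT g.2).2] at h1
      exact h1.symm) (charDegree θ) hdeg (by
      have h1 : (K.subgroupOf T).index = K.relIndex T := rfl
      rw [h1]
      exact Nat.Coprime.mul_right (hcop.symm.coprime_dvd_right hd2)
        (hcop.symm.coprime_dvd_right hd1))
  refine ⟨χ, hχ, fun k => ?_⟩
  have h1 := hχ' (e.symm k)
  have h2 : ((e.symm k : K.subgroupOf T) : T) = Subgroup.inclusion hKT k := rfl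
  rw [h2] at h1
  rw [h1]
  simp

end gal

section lin

variable {G : Type u} [Group G] [Finite G] {K T : Subgroup G}

/-- A homomorphism `T → ℂˣ`, trivial on `K ≥ T'`, not trivial at a given element outside `K`. -/
theorem exists_lin_ne (hKT : K ≤ T) (hab : ⁅T, T⁆ ≤ K) {x : T} (hx : (x : G) ∉ K) :
    ∃ β : T →* ℂˣ, (∀ k : K, β (Subgroup.inclusion hKT k) = 1) ∧ β x ≠ 1 := by
  have hn : (K.subgroupOf T).Normal := by
    constructor
    intro n hn g
    rw [Subgroup.mem_subgroupOf] at hn ⊢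
    have h1 : (⁅(g : G), (n : G)⁆ : G) ∈ K := hab (Subgroup.commutator_mem_commutator g.2 n.2)
    have h2 : ((g * n * g⁻¹ : T) : G) = ⁅(g : G), (n : G)⁆ * n := by
      rw [commutatorElement_def]; push_cast; group
    rw [h2]
    exact K.mul_mem h1 hn
  have h1 : ((x : T) : T ⧸ K.subgroupOf T) ∉ commutator (T ⧸ K.subgroupOf T) := by
    intro h
    have h2 : commutator (T ⧸ K.subgroupOf T) = ⊥ := by
      rw [eq_bot_iff, _root_.commutator_def, Subgroup.commutator_le]
      intro a _ b _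
      obtain ⟨a, rfl⟩ := QuotientGroup.mk_surjective a
      obtain ⟨b, rfl⟩ := QuotientGroup.mk_surjective b
      rw [Subgroup.mem_bot]
      have h3 : ⁅(a : T ⧸ K.subgroupOf T), (b : T ⧸ K.subgroupOf T)⁆ =
        ((⁅a, b⁆ : T) : T ⧸ K.subgroupOf T) := rfl
      rw [h3, QuotientGroup.eq_one_iff, Subgroup.mem_subgroupOf]
      exact hab (Subgroup.commutator_mem_commutator a.2 b.2)
    rw [h2, Subgroup.mem_bot, QuotientGroup.eq_one_iff, Subgroup.mem_subgroupOf] at h
    exact hx h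
  obtain ⟨f, hf⟩ := Cfsg.Agent.H597.Norm.exists_hom_ne_one h1
  refine ⟨f.comp (QuotientGroup.mk' (K.subgroupOf T)), fun k => ?_, hf⟩
  rw [MonoidHom.comp_apply]
  have : QuotientGroup.mk' (K.subgroupOf T) (Subgroup.inclusion hKT k) = 1 := by
    rw [QuotientGroup.mk'_apply, QuotientGroup.eq_one_iff, Subgroup.mem_subgroupOf]
    exact k.2
  rw [this, map_one]

/-- Homomorphisms to `ℂˣ` are trivial on commutators. -/
theorem hom_commutator {U : Subgroup G} (l : U →* ℂˣ) {y : G} (hy : y ∈ ⁅U, U⁆) (hy' : y ∈ U) :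
    l ⟨y, hy'⟩ = 1 := by
  have h2 : ⁅U, U⁆ ≤ (l.ker).map U.subtype := by
    rw [Subgroup.commutator_le]
    intro a ha b hb
    refine ⟨⁅(⟨a, ha⟩ : U), (⟨b, hb⟩ : U)⁆, ?_, rfl⟩
    rw [SetLike.mem_coe, MonoidHom.mem_ker, map_commutatorElement]
    exact commutatorElement_eq_one_iff_mul_comm.2 (mul_comm _ _)
  obtain ⟨z, hz, hzy⟩ := h2 hy
  have : z = ⟨y, hy'⟩ := Subtype.ext hzy
  rw [← this]
  exact hz

/-- A character of `U` over a nontrivial character of a subgroup of `U'` is not linear. -/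
theorem nonlin_of_over {U : Subgroup G} (hKU : K ≤ U) (hK : K ≤ ⁅U, U⁆) {ψ : U → ℂ}
    (hψ : IsIrrCharacter U ψ) {μ : K → ℂ} (hμ : IsIrrCharacter K μ) (hμ1 : μ ≠ 1)
    (ho : Over (Subgroup.inclusion hKU) ψ μ) : charDegree ψ ≠ 1 := by
  classical
  intro h1
  obtain ⟨l, rfl⟩ := exists_hom_of_degree_one hψ h1
  letI := Fintype.ofFinite K
  rw [over_iff] at ho
  apply ho
  have e : lf l ∘ Subgroup.inclusion hKU = (1 : K → ℂ) := by
    funext j
    change ((l _ : ℂˣ) : ℂ) = 1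
    have := hom_commutator l (hK j.2) (hKU j.2)
    rw [show Subgroup.inclusion hKU j = ⟨j, hKU j.2⟩ from rfl, this]
    rfl
  rw [e]
  exact classInner_irr_ne isIrr_one hμ (Ne.symm hμ1)

theorem exists_over_incl {U : Subgroup G} (hKU : K ≤ U) {θ : K → ℂ} (hθ : IsIrrCharacter K θ) :
    ∃ ψ : U → ℂ, IsIrrCharacter U ψ ∧ Over (Subgroup.inclusion hKU) ψ θ := by
  obtain ⟨ψ, hψ, h⟩ := exists_over_subtype (K.subgroupOf U) (isIrr_sub hKU hθ)
  exact ⟨ψ, hψ, (over_iff_sub hKU ψ θ).2 h⟩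

theorem degree_dvd_card {U : Type v} [Group U] [Finite U] {θ : U → ℂ} (hθ : IsIrrCharacter U θ) :
    charDegree θ ∣ Nat.card U := by
  obtain ⟨m, ρ, hρ, hm⟩ := hθ
  have h2 := Cfsg.Agent.S0135.result ρ
  have h3 : charDegree θ = m := by
    apply charDegree_of_eq
    rw [← hm]; simp
  rw [h3]
  simpa using h2

end lin

section central

variable {G : Type u} [Group G] [Finite G] {N J T : Subgroup G}

/-- Twisting both characters by the same element. -/
theorem over_tw_tw {K U : Subgroup G} (hKU : K ≤ U) {g : G}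
    (hK : g ∈ Subgroup.normalizer (K : Set G)) (hU : g ∈ Subgroup.normalizer (U : Set G))
    (ψ : U → ℂ) (θ : K → ℂ) :
    Over (Subgroup.inclusion hKU) (tw U g ψ) (tw K g θ) ↔ Over (Subgroup.inclusion hKU) ψ θ := by
  rw [tw_eq_comp hK, tw_eq_comp hU]
  exact over_congr (cj hU) (cj hK) _ _ (fun _ => rfl) ψ θ

/-- `G = N · stab μ` if some `ψ ∈ Irr N` over `μ` is `G`-invariant. -/
theorem exists_mul_stab [N.Normal] [hJ : J.Normal] (hJN : J ≤ N) {μ : J → ℂ}
    (hμ : IsIrrCharacter J μ) {ψ : N → ℂ} (hψ : IsIrrCharacter N ψ)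
    (ho : Over (Subgroup.inclusion hJN) ψ μ) (hinv : ∀ g : G, tw N g ψ = ψ) (g : G) :
    ∃ s ∈ stab μ, ∃ n ∈ N, g = s * n := by
  have hgJ : ∀ g : G, g ∈ Subgroup.normalizer (J : Set G) := fun g => by
    rw [Subgroup.normalizer_eq_top]; exact Subgroup.mem_top g
  have hgN : ∀ g : G, g ∈ Subgroup.normalizer (N : Set G) := fun g => by
    rw [Subgroup.normalizer_eq_top]; exact Subgroup.mem_top g
  have h1 : Over (Subgroup.inclusion hJN) ψ (tw J g μ) := by
    rw [← hinv g]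
    exact (over_tw_tw hJN (hgJ g) (hgN g) ψ μ).2 ho
  obtain ⟨n, hn, h2⟩ := exists_tw_of_over hJN (fun x _ => hgJ x) hψ hμ (isIrr_tw (hgJ g) hμ) ho h1
  refine ⟨g * n⁻¹, ⟨hgJ _, ?_⟩, n, hn, by group⟩
  rw [tw_mul (hgJ _) (hgJ _), h2, ← tw_mul (hgJ _) (hgJ _), mul_inv_cancel, tw_one]

/-- **Centrality.** -/
theorem central_of_inv [hN : N.Normal] [hJ : J.Normal] (hab : ⁅N, N⁆ ≤ J) {μ : J → ℂ}
    (hI : Inert J T N μ) {χ : T → ℂ} (hχ : IsIrrCharacter T χ)
    (hext : ∀ j : J, χ (Subgroup.inclusion hI.KT j) = μ j)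
    (hinv : ∀ ψ : N → ℂ, IsIrrCharacter N ψ → Over (Subgroup.inclusion hI.le) ψ μ →
      ∀ g : G, tw N g ψ = ψ) : ∀ t ∈ T, ∀ g : G, t * g * t⁻¹ * g⁻¹ ∈ J := by
  classical
  have hgJ : ∀ g : G, g ∈ Subgroup.normalizer (J : Set G) := fun g => by
    rw [Subgroup.normalizer_eq_top]; exact Subgroup.mem_top g
  have hgN : ∀ g : G, g ∈ Subgroup.normalizer (N : Set G) := fun g => by
    rw [Subgroup.normalizer_eq_top]; exact Subgroup.mem_top g
  have hTJ : T ≤ Subgroup.normalizer (J : Set G) := fun x _ => hgJ x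
  have hμ := hI.irr
  -- linear twists of the extension
  have htw : ∀ β : T →* ℂˣ, (∀ k : J, β (Subgroup.inclusion hI.KT k) = 1) →
      IsIrrCharacter T (lf β * χ) ∧ Over (Subgroup.inclusion hI.KT) (lf β * χ) μ := fun β hβ =>
    (gal hI.KT hTJ hμ hχ hext).mapsTo ⟨isIrr_lf β, fun k => by
      rw [lf_apply, lf_apply, hβ, map_one]⟩
  -- the stabilizer normalizes `T`
  have hsT : ∀ s ∈ stab μ, s ∈ Subgroup.normalizer (T : Set G) := by
    intro s hs
    rw [Subgroup.mem_normalizer_iff]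
    intro t
    rw [hI.eq]
    constructor
    · rintro ⟨h1, h2⟩
      exact ⟨hN.conj_mem t h1 s, (stab μ).mul_mem ((stab μ).mul_mem hs h2) ((stab μ).inv_mem hs)⟩
    · rintro ⟨h1, h2⟩
      have h3 := hN.conj_mem _ h1 s⁻¹
      have h4 := (stab μ).mul_mem ((stab μ).mul_mem ((stab μ).inv_mem hs) h2) hs
      have e : s⁻¹ * (s * t * s⁻¹) * s = t := by group
      rw [e] at h4
      have e' : s⁻¹ * (s * t * s⁻¹) * s⁻¹⁻¹ = t := by group
      rw [e'] at h3
      exact ⟨h3, h4⟩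
  have hfix : ∀ s ∈ stab μ, ∀ β : T →* ℂˣ, (∀ k : J, β (Subgroup.inclusion hI.KT k) = 1) →
      tw T s (lf β * χ) = lf β * χ := by
    intro s hs β hβ
    obtain ⟨h1, h2⟩ := htw β hβ
    obtain ⟨ψ, hψ, h3, h4, -⟩ := hI.lift h1 h2
    have h5 := hinv ψ hψ h4 s
    have h6 : Over (Subgroup.inclusion hI.TU) ψ (tw T s (lf β * χ)) := by
      rw [← h5]
      exact (over_tw_tw hI.TU (hsT s hs) (hgN s) _ _).2 h3
    have h7 : Over (Subgroup.inclusion hI.KT) (tw T s (lf β * χ)) μ := by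
      conv_rhs => rw [← hs.2]
      exact (over_tw_tw hI.KT (hgJ s) (hsT s hs) _ _).2 h2
    exact hI.unique (isIrr_tw (hsT s hs) h1) h1 h7 h2 hψ h6 h3
  have h1 : lf (1 : T →* ℂˣ) * χ = χ := by
    funext t
    simp [lf]
  have hχs : ∀ s ∈ stab μ, tw T s χ = χ := by
    intro s hs
    have := hfix s hs 1 (fun _ => rfl)
    rwa [h1] at this
  have hTab : ⁅T, T⁆ ≤ J := (Subgroup.commutator_mono hI.TU hI.TU).trans hab
  have hcom : ∀ s ∈ stab μ, ∀ t ∈ T, s * t * s⁻¹ * t⁻¹ ∈ J := by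
    intro s hs t ht
    by_contra hcon
    have hst : s * t * s⁻¹ ∈ T := conj_mem_of_mem (hsT s hs) ⟨t, ht⟩
    obtain ⟨β, hβ, hβ'⟩ := exists_lin_ne (x := (⟨s * t * s⁻¹ * t⁻¹, T.mul_mem hst (T.inv_mem ht)⟩ : T))
      hI.KT hTab hcon
    apply hβ'
    let β' : T →* ℂˣ := β.comp (cj (hsT s hs)).toMonoidHom
    have hβ'J : ∀ k : J, β' (Subgroup.inclusion hI.KT k) = 1 := by
      intro k
      exact hβ ⟨s * k * s⁻¹, hJ.conj_mem k k.2 s⟩
    have e1 : lf β' * χ = lf β * χ := by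
      rw [← hfix s hs β hβ, tw_eq_comp (hsT s hs)]
      have e2 := hχs s hs
      rw [tw_eq_comp (hsT s hs)] at e2
      funext t
      have e3 := congrFun e2 t
      simp only [Function.comp, Pi.mul_apply] at e3 ⊢
      rw [e3]
      rfl
    have e2 : lf β' = lf β := (gal hI.KT hTJ hμ hχ hext).injOn
      ⟨isIrr_lf β', fun k => by rw [lf_apply, lf_apply, hβ'J, map_one]⟩
      ⟨isIrr_lf β, fun k => by rw [lf_apply, lf_apply, hβ, map_one]⟩ e1
    have e3 : β' ⟨t, ht⟩ = β ⟨t, ht⟩ := by rw [lf_injective e2]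
    have e4 : β ⟨s * t * s⁻¹, hst⟩ = β ⟨t, ht⟩ := e3
    have e5 : (⟨s * t * s⁻¹ * t⁻¹, T.mul_mem hst (T.inv_mem ht)⟩ : T) =
      ⟨s * t * s⁻¹, hst⟩ * ⟨t, ht⟩⁻¹ := rfl
    rw [e5, map_mul, map_inv, e4, mul_inv_cancel]
  intro t ht g
  obtain ⟨h2, h3⟩ := htw 1 (fun _ => rfl)
  obtain ⟨ψ, hψ, -, h4, -⟩ := hI.lift h2 h3
  obtain ⟨s, hs, n, hn, rfl⟩ := exists_mul_stab hI.le hμ hψ h4 (hinv ψ hψ h4) g
  have c1 : (t : G ⧸ J) * (s : G ⧸ J) = (s : G ⧸ J) * (t : G ⧸ J) := by
    have := hcom s hs t ht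
    rw [← QuotientGroup.eq_one_iff] at this
    simp only [QuotientGroup.mk_mul, QuotientGroup.mk_inv] at this
    rw [mul_inv_eq_one, mul_inv_eq_iff_eq_mul] at this
    exact this.symm
  have c2 : (t : G ⧸ J) * (n : G ⧸ J) = (n : G ⧸ J) * (t : G ⧸ J) := by
    have := hab (Subgroup.commutator_mem_commutator (hI.TU ht) hn)
    rw [← QuotientGroup.eq_one_iff, commutatorElement_def] at this
    simp only [QuotientGroup.mk_mul, QuotientGroup.mk_inv] at this
    rw [mul_inv_eq_one, mul_inv_eq_iff_eq_mul] at this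
    exact this
  rw [← QuotientGroup.eq_one_iff]
  simp only [QuotientGroup.mk_mul, QuotientGroup.mk_inv, mul_inv_rev]
  calc (t : G ⧸ J) * ((s : G ⧸ J) * (n : G ⧸ J)) * (t : G ⧸ J)⁻¹ * ((n : G ⧸ J)⁻¹ * (s : G ⧸ J)⁻¹)
      = ((t : G ⧸ J) * (s : G ⧸ J)) * (n : G ⧸ J) * (t : G ⧸ J)⁻¹ * (n : G ⧸ J)⁻¹ * (s : G ⧸ J)⁻¹ := by
        group
    _ = (s : G ⧸ J) * ((t : G ⧸ J) * (n : G ⧸ J)) * (t : G ⧸ J)⁻¹ * (n : G ⧸ J)⁻¹ *
        (s : G ⧸ J)⁻¹ := by rw [c1]; group
    _ = 1 := by rw [c2]; group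

end central

end Cfsg.Agent.H675.Nd
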