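import Mathlib
import Cfsg.Agent.H675.Nd.Cliff
import Cfsg.Agent.S1513
import Cfsg.Agent.S0173
import Cfsg.Agent.S0033
import Cfsg.Agent.H672.RM.SM
import Cfsg.Agent.H566.Glaub
import Cfsg.Agent.H594.GlauUp
import Cfsg.Agent.H597.IndexP
import Cfsg.Agent.S0002
import Cfsg.Agent.H597.Degrees
import Cfsg.Agent.H597.RelThompson
import Cfsg.Agent.H672.Main
import Cfsg.Agent.CharactersDeep.FeitLinear
import Cfsg.Agent.H597.ThreeDegB
set_option linter.all false

-- part: H675/Nd/Hyp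
section
/-!
# The hypothesis on `N` after the reduction

`Hyp N J x p`: `J = ⁅N, N⁆`, `x ∈ N` of order `p` prime to `|J|` moves all nontrivial irreducible
characters of `J`; the nonlinear irreducible characters of `N` are `G`-invariant, of degrees prime to
`|G : N|`, forming an antichain under divisibility; `x J` is not central in `G / J`.
-/

set_option autoImplicit false
set_option linter.style.haveILetI false
set_option linter.unusedSectionVars false
open Cfsg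

namespace Cfsg.Agent.H675.Nd

open Cfsg.Agent.Characters.Core Cfsg.Agent.Characters.Clifford Cfsg.Agent.H672 Cfsg.Agent.H672.RM
open scoped ComplexConjugate commutatorElement

universe u v

theorem mem_nrm {G : Type u} [Group G] (K : Subgroup G) [K.Normal] (g : G) :
    g ∈ Subgroup.normalizer (K : Set G) := by
  rw [Subgroup.normalizer_eq_top]; exact Subgroup.mem_top g

theorem le_nrm {G : Type u} [Group G] (K U : Subgroup G) [K.Normal] :
    U ≤ Subgroup.normalizer (K : Set G) := fun g _ => mem_nrm K g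

structure Hyp {G : Type u} [Group G] [Finite G] (N J : Subgroup G) (x : G) (p : ℕ) : Prop where
  nN : N.Normal
  eJ : J = ⁅N, N⁆
  pr : p.Prime
  xN : x ∈ N
  xp : x ^ p = 1
  pJ : ¬ p ∣ Nat.card J
  hx : ∀ μ : J → ℂ, IsIrrCharacter J μ → x ∈ stab μ → μ = 1
  inv : ∀ ψ : N → ℂ, IsIrrCharacter N ψ → charDegree ψ ≠ 1 → ∀ g : G, tw N g ψ = ψ
  cop : ∀ ψ : N → ℂ, IsIrrCharacter N ψ → charDegree ψ ≠ 1 → (charDegree ψ).Coprime N.index
  anti : ∀ ψ ψ' : N → ℂ, IsIrrCharacter N ψ → IsIrrCharacter N ψ' → charDegree ψ ≠ 1 →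
    charDegree ψ' ≠ 1 → charDegree ψ ∣ charDegree ψ' → charDegree ψ = charDegree ψ'
  nc : ∃ g : G, x * g * x⁻¹ * g⁻¹ ∉ J

section basic

variable {G : Type u} [Group G] [Finite G] {N J : Subgroup G} {x : G} {p : ℕ}

theorem Hyp.nJ (h : Hyp N J x p) : J.Normal := by
  haveI := h.nN
  rw [h.eJ]; infer_instance

theorem Hyp.JN (h : Hyp N J x p) : J ≤ N := by
  haveI := h.nN
  rw [h.eJ]; exact Subgroup.commutator_le_left N N

theorem Hyp.ab (h : Hyp N J x p) : ⁅N, N⁆ ≤ J := h.eJ.ge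

/-- a linear character of `N` is trivial on `J`. -/
theorem Hyp.lin_one (h : Hyp N J x p) (l : N →* ℂˣ) (j : J) : l ⟨j, h.JN j.2⟩ = 1 := by
  have h1 : ∀ y : G, y ∈ ⁅N, N⁆ → ∀ hy : y ∈ N, l ⟨y, hy⟩ = 1 := by
    intro y hy
    have h2 : ⁅N, N⁆ ≤ (l.ker).map N.subtype := by
      rw [Subgroup.commutator_le]
      intro a ha b hb
      refine ⟨⁅(⟨a, ha⟩ : N), (⟨b, hb⟩ : N)⁆, ?_, rfl⟩
      rw [SetLike.mem_coe, MonoidHom.mem_ker, map_commutatorElement]
      exact commutatorElement_eq_one_iff_mul_comm.2 (mul_comm _ _)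
    intro hy'
    obtain ⟨z, hz, hzy⟩ := h2 hy
    have : z = ⟨y, hy'⟩ := Subtype.ext hzy
    rw [← this]
    exact hz
  exact h1 j (h.eJ ▸ j.2) _

/-- A character of `N` over a nontrivial character of `J` is not linear. -/
theorem Hyp.nonlin (h : Hyp N J x p) {ψ : N → ℂ} (hψ : IsIrrCharacter N ψ) {μ : J → ℂ}
    (hμ : IsIrrCharacter J μ) (hμ1 : μ ≠ 1) (ho : Over (Subgroup.inclusion h.JN) ψ μ) :
    charDegree ψ ≠ 1 := by
  classical
  intro h1
  obtain ⟨l, rfl⟩ := exists_hom_of_degree_one hψ h1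
  letI := Fintype.ofFinite J
  rw [over_iff] at ho
  apply ho
  have e : lf l ∘ Subgroup.inclusion h.JN = (1 : J → ℂ) := by
    funext j
    change ((l _ : ℂˣ) : ℂ) = 1
    have := h.lin_one l j
    rw [show Subgroup.inclusion h.JN j = ⟨j, h.JN j.2⟩ from rfl, this]
    rfl
  rw [e]
  exact classInner_irr_ne isIrr_one hμ (Ne.symm hμ1)

/-- a nonlinear character of `N` lies over a nontrivial character of `J`. -/
theorem Hyp.under_ne_one (h : Hyp N J x p) {ψ : N → ℂ} (hψ : IsIrrCharacter N ψ)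
    (h1 : charDegree ψ ≠ 1) {μ : J → ℂ} (_hμ : IsIrrCharacter J μ)
    (ho : Over (Subgroup.inclusion h.JN) ψ μ) : μ ≠ 1 := by
  rintro rfl
  haveI := h.nJ
  haveI := h.nN
  have h2 := (over_one_iff h.JN (le_nrm J N) hψ).1 ho
  apply h1
  have h3 : ∀ k ∈ commutator N, ψ k = ψ 1 := by
    intro k hk
    have hk' : (k : G) ∈ J := by
      apply h.ab
      rw [← Subgroup.map_subtype_commutator]
      exact ⟨k, hk, rfl⟩
    exact h2 ⟨k, hk'⟩
  obtain ⟨l, rfl⟩ := OddOrderCharacters.PF9.CliffGen.exists_hom_of_ker hψ h3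
  exact charDegree_lf l

/-- `C_J(x) = 1`. -/
theorem Hyp.fix (h : Hyp N J x p) {j : G} (hj : j ∈ J) (hc : x * j = j * x) : j = 1 := by
  classical
  haveI := h.nJ
  let α : J ≃* J := cj (mem_nrm J x)
  have hα : ∀ k : J, ((α k : J) : G) = x * k * x⁻¹ := fun _ => rfl
  have h1 := S0173.result α
  have h2 : Nat.card {χ : IrrCharacter J // (χ : J → ℂ) ∘ α = (χ : J → ℂ)} = 1 := by
    rw [Nat.card_eq_one_iff_unique]
    refine ⟨⟨fun a b => ?_⟩, ⟨⟨⟨1, isIrr_one⟩, rfl⟩⟩⟩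
    have key : ∀ a : {χ : IrrCharacter J // (χ : J → ℂ) ∘ α = (χ : J → ℂ)},
        ((a : IrrCharacter J) : J → ℂ) = 1 := by
      intro a
      refine h.hx _ a.1.2 ⟨mem_nrm J x, ?_⟩
      rw [tw_eq_comp (mem_nrm J x)]
      exact a.2
    exact Subtype.ext (Subtype.ext ((key a).trans (key b).symm))
  rw [h2, Nat.card_eq_one_iff_unique] at h1
  obtain ⟨h3, -⟩ := h1
  have h4 : ConjClasses.map α.toMonoidHom (ConjClasses.mk (⟨j, hj⟩ : J)) =
      ConjClasses.mk (⟨j, hj⟩ : J) := by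
    change ConjClasses.mk (α ⟨j, hj⟩) = _
    congr 1
    apply Subtype.ext
    rw [hα]
    change x * j * x⁻¹ = j
    rw [hc, mul_inv_cancel_right]
  have h5 : ConjClasses.map α.toMonoidHom (ConjClasses.mk (1 : J)) =
      ConjClasses.mk (1 : J) := by
    change ConjClasses.mk (α 1) = _
    rw [map_one]
  have h6 := h3.elim (⟨_, h4⟩ : {C : ConjClasses J // ConjClasses.map α.toMonoidHom C = C}) ⟨_, h5⟩
  have h7 : ConjClasses.mk (⟨j, hj⟩ : J) = ConjClasses.mk 1 := congrArg Subtype.val h6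
  rw [ConjClasses.mk_eq_mk_iff_isConj, isConj_comm, isConj_iff] at h7
  obtain ⟨c, hc'⟩ := h7
  have h8 : (⟨j, hj⟩ : J) = 1 := by rw [← hc']; group
  exact congrArg Subtype.val h8

/-- Every element of `N` is the product of an element of `J` and an element centralizing `x`. -/
theorem Hyp.exists_mul (h : Hyp N J x p) {n : G} (hn : n ∈ N) :
    ∃ j ∈ J, ∃ c ∈ N, x * c = c * x ∧ n = c * j := by
  haveI := h.nJ
  haveI := h.nN
  -- `j ↦ x⁻¹ j⁻¹ x j` is injective, hence surjective, on `J`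
  let f : J → J := fun j => ⟨x⁻¹ * (j : G)⁻¹ * x * j, by
    have h1 := h.nJ.conj_mem (j : G)⁻¹ (J.inv_mem j.2) x⁻¹
    rw [inv_inv] at h1
    exact J.mul_mem h1 j.2⟩
  have hf : Function.Injective f := by
    intro a b hab
    have h1 : x⁻¹ * (a : G)⁻¹ * x * a = x⁻¹ * (b : G)⁻¹ * x * b := congrArg Subtype.val hab
    have h2 : x * ((b : G) * (a : G)⁻¹) = ((b : G) * (a : G)⁻¹) * x := by
      have h3 : (a : G)⁻¹ * x * a = (b : G)⁻¹ * x * b := by
        have := congrArg (fun y => x * y) h1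
        simpa [mul_assoc] using this
      have h4 : (b : G) * ((a : G)⁻¹ * x * a) * (a : G)⁻¹ = (b : G) * ((b : G)⁻¹ * x * b) * (a : G)⁻¹ := by
        rw [h3]
      have h5 : (b : G) * ((a : G)⁻¹ * x * a) * (a : G)⁻¹ = (b : G) * (a : G)⁻¹ * x := by group
      have h6 : (b : G) * ((b : G)⁻¹ * x * b) * (a : G)⁻¹ = x * ((b : G) * (a : G)⁻¹) := by group
      rw [h5, h6] at h4
      exact h4.symm
    have h3 := h.fix (J.mul_mem b.2 (J.inv_mem a.2)) h2
    exact Subtype.ext (mul_inv_eq_one.1 h3).symm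
  have hs := Finite.surjective_of_injective hf
  have h1 : x⁻¹ * (n⁻¹ * x * n) ∈ J := by
    have h2 : ⁅x⁻¹, n⁻¹⁆ ∈ J := h.ab (Subgroup.commutator_mem_commutator (N.inv_mem h.xN) (N.inv_mem hn))
    rw [commutatorElement_def, inv_inv, inv_inv] at h2
    simpa [mul_assoc] using h2
  obtain ⟨j, hj⟩ := hs ⟨_, h1⟩
  have h2 : x⁻¹ * (j : G)⁻¹ * x * j = x⁻¹ * (n⁻¹ * x * n) := congrArg Subtype.val hj
  have h3 : (j : G)⁻¹ * x * j = n⁻¹ * x * n := by
    have := congrArg (fun y => x * y) h2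
    simpa [mul_assoc] using this
  refine ⟨j, j.2, n * (j : G)⁻¹, N.mul_mem hn (N.inv_mem (h.JN j.2)), ?_, by group⟩
  have h4 : n * ((j : G)⁻¹ * x * j) * (j : G)⁻¹ = n * (n⁻¹ * x * n) * (j : G)⁻¹ := by rw [h3]
  have h5 : n * ((j : G)⁻¹ * x * j) * (j : G)⁻¹ = n * (j : G)⁻¹ * x := by group
  have h6 : n * (n⁻¹ * x * n) * (j : G)⁻¹ = x * (n * (j : G)⁻¹) := by group
  rw [h5, h6] at h4
  exact h4.symm

/-- Elements of `N` centralizing `x` commute. -/
theorem Hyp.comm_cent (h : Hyp N J x p) {a b : G} (ha : a ∈ N) (hb : b ∈ N) (hxa : x * a = a * x)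
    (hxb : x * b = b * x) : a * b = b * a := by
  have h1 : ⁅a, b⁆ ∈ J := h.ab (Subgroup.commutator_mem_commutator ha hb)
  have h2 := h.fix h1 (by
    have e1 : Commute x a := hxa
    have e2 : Commute x b := hxb
    rw [commutatorElement_def]
    exact ((e1.mul_right e2).mul_right e1.inv_right).mul_right e2.inv_right)
  exact commutatorElement_eq_one_iff_mul_comm.1 h2

end basic

section lin

variable {G : Type u} [Group G] [Finite G] {N J : Subgroup G} {x : G} {p : ℕ}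

theorem mem_stab_lf {J : Subgroup G} [hJ : J.Normal] {l : J →* ℂˣ} {g : G} :
    g ∈ stab (lf l : J → ℂ) ↔ ∀ j : J, l ⟨g * j * g⁻¹, hJ.conj_mem j j.2 g⟩ = l j := by
  rw [mem_stab, tw_eq_comp (mem_nrm J g)]
  constructor
  · rintro ⟨-, h⟩ j
    exact Units.ext (congrFun h j)
  · intro h
    exact ⟨mem_nrm J g, funext fun j => congrArg Units.val (h j)⟩

/-- An invariant linear character of `J` extends. -/
theorem Hyp.lin_ext (h : Hyp N J x p) {T : Subgroup G} (hTN : T ≤ N) (hJT : J ≤ T)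
    (l : J →* ℂˣ) (hT : T ≤ stab (lf l : J → ℂ)) :
    ∃ m : T →* ℂˣ, ∀ j : J, m (Subgroup.inclusion hJT j) = l j := by
  haveI := h.nJ
  let W : Subgroup T := (Subgroup.centralizer ({x} : Set G)).subgroupOf T
  have hW : ∀ t : T, t ∈ W ↔ x * t = t * x := by
    intro t
    rw [Subgroup.mem_subgroupOf, Subgroup.mem_centralizer_singleton_iff]
    exact eq_comm
  have h1 : J.subgroupOf T ⊓ W = ⊥ := by
    rw [eq_bot_iff]
    rintro t ⟨h1, h2⟩
    exact Subtype.ext (h.fix h1 ((hW t).1 h2))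
  have h2 : J.subgroupOf T ⊔ W = ⊤ := by
    rw [eq_top_iff]
    intro t _
    obtain ⟨j, hj, c, hc, hxc, e⟩ := h.exists_mul (hTN t.2)
    have hcT : c ∈ T := by
      have : c = t * j⁻¹ := by rw [e]; group
      rw [this]
      exact T.mul_mem t.2 (T.inv_mem (hJT hj))
    have e' : t = (⟨c, hcT⟩ : T) * ⟨j, hJT hj⟩ := Subtype.ext e
    rw [e']
    refine Subgroup.mul_mem _ (Subgroup.mem_sup_right ((hW _).2 hxc)) (Subgroup.mem_sup_left ?_)
    exact hj
  obtain ⟨F, hF, -⟩ := OddOrderCharacters.SplitExtension.exists_hom_of_complement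
    (J.subgroupOf T) W h1 h2 (l.comp (Subgroup.subgroupOfEquivOfLe hJT).toMonoidHom) 1 (by
      intro w n
      rw [MonoidHom.one_apply, one_mul, inv_one, mul_one]
      exact (mem_stab_lf.1 (hT w.1.2)) ⟨n, n.2⟩)
  exact ⟨F, fun j => hF ⟨⟨j, hJT j.2⟩, j.2⟩⟩

/-- The stabilizer in `N` of a linear character of `J`. -/
noncomputable def TL (N : Subgroup G) {J : Subgroup G} (l : J →* ℂˣ) : Subgroup G :=
  N ⊓ stab (lf l : J → ℂ)

theorem Hyp.inert (h : Hyp N J x p) {μ : J → ℂ} (hμ : IsIrrCharacter J μ) :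
    Inert J (N ⊓ stab μ) N μ := by
  haveI := h.nJ
  exact ⟨h.JN, le_nrm J N, hμ, rfl⟩

theorem Hyp.inertL (h : Hyp N J x p) (l : J →* ℂˣ) : Inert J (TL N l) N (lf l) :=
  h.inert (isIrr_lf l)

theorem lf_ne_one {K : Type v} [Group K] [Finite K] {l : K →* ℂˣ} (hl : l ≠ 1) : lf l ≠ 1 := by
  intro e
  apply hl
  apply lf_injective
  rw [e]
  rfl

/-- For an extendible nontrivial `μ`: centrality of `T / J`. -/
theorem Hyp.central (h : Hyp N J x p) {μ : J → ℂ} (hμ : IsIrrCharacter J μ) (hμ1 : μ ≠ 1)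
    {χ : (N ⊓ stab μ : Subgroup G) → ℂ} (hχ : IsIrrCharacter _ χ)
    (hext : ∀ j : J, χ (Subgroup.inclusion (h.inert hμ).KT j) = μ j) :
    ∀ t ∈ N ⊓ stab μ, ∀ g : G, t * g * t⁻¹ * g⁻¹ ∈ J := by
  haveI := h.nJ
  haveI := h.nN
  exact central_of_inv h.ab (h.inert hμ) hχ hext (fun ψ hψ ho g =>
    h.inv ψ hψ (h.nonlin hψ hμ hμ1 ho) g)

/-- For an extendible nontrivial `μ`: the degree `|N : T| μ(1)`. -/
theorem Hyp.deg (h : Hyp N J x p) {μ : J → ℂ} (hμ : IsIrrCharacter J μ) (hμ1 : μ ≠ 1)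
    {χ : (N ⊓ stab μ : Subgroup G) → ℂ} (hχ : IsIrrCharacter _ χ)
    (hext : ∀ j : J, χ (Subgroup.inclusion (h.inert hμ).KT j) = μ j) :
    ∃ ψ : N → ℂ, IsIrrCharacter N ψ ∧ charDegree ψ ≠ 1 ∧ Over (Subgroup.inclusion h.JN) ψ μ ∧
      charDegree ψ = (N ⊓ stab μ).relIndex N * charDegree μ := by
  haveI := h.nJ
  have ho : Over (Subgroup.inclusion (h.inert hμ).KT) χ μ := by
    classical
    letI := Fintype.ofFinite J
    rw [over_iff]
    have e : χ ∘ Subgroup.inclusion (h.inert hμ).KT = μ := funext hext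
    rw [e, classInner_irr_self hμ]
    exact one_ne_zero
  obtain ⟨ψ, hψ, -, h2, h3⟩ := (h.inert hμ).lift hχ ho
  refine ⟨ψ, hψ, h.nonlin hψ hμ hμ1 h2, h2, ?_⟩
  rw [h3]
  congr 1
  have e : χ ∘ Subgroup.inclusion (h.inert hμ).KT = μ := funext hext
  exact (charDegree_comp_one (Subgroup.inclusion (h.inert hμ).KT) χ).symm.trans
    (congrArg charDegree e)

theorem Hyp.centralL (h : Hyp N J x p) {l : J →* ℂˣ} (hl : l ≠ 1) :
    ∀ t ∈ TL N l, ∀ g : G, t * g * t⁻¹ * g⁻¹ ∈ J := by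
  obtain ⟨m, hm⟩ := h.lin_ext (h.inertL l).TU (h.inertL l).KT l (h.inertL l).Tstab
  exact h.central (isIrr_lf l) (lf_ne_one hl) (isIrr_lf m) (fun j => congrArg Units.val (hm j))

theorem Hyp.degL (h : Hyp N J x p) {l : J →* ℂˣ} (hl : l ≠ 1) :
    ∃ ψ : N → ℂ, IsIrrCharacter N ψ ∧ charDegree ψ ≠ 1 ∧
      Over (Subgroup.inclusion h.JN) ψ (lf l) ∧ charDegree ψ = (TL N l).relIndex N := by
  obtain ⟨m, hm⟩ := h.lin_ext (h.inertL l).TU (h.inertL l).KT l (h.inertL l).Tstab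
  obtain ⟨ψ, h1, h2, h3, h4⟩ := h.deg (isIrr_lf l) (lf_ne_one hl) (isIrr_lf m)
    (fun j => congrArg Units.val (hm j))
  refine ⟨ψ, h1, h2, h3, ?_⟩
  rw [h4, charDegree_lf, mul_one]
  rfl

end lin

end Cfsg.Agent.H675.Nd
end

-- part: H675/Nd/Lin
section
/-!
# The stabilizers of the linear characters of `J` coincide
-/

set_option autoImplicit false
set_option linter.style.haveILetI false
set_option linter.unusedSectionVars false
open Cfsg

namespace Cfsg.Agent.H675.Nd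

open Cfsg.Agent.Characters.Core Cfsg.Agent.Characters.Clifford Cfsg.Agent.H672 Cfsg.Agent.H672.RM
open scoped ComplexConjugate commutatorElement

universe u v

section twist

variable {G : Type u} [Group G] {J : Subgroup G} [hJ : J.Normal]

/-- the conjugate of a linear character -/
def cl (g : G) (l : J →* ℂˣ) : J →* ℂˣ := l.comp (cj (mem_nrm J g)).toMonoidHom

theorem cl_apply (g : G) (l : J →* ℂˣ) (j : J) :
    cl g l j = l ⟨g * j * g⁻¹, hJ.conj_mem j j.2 g⟩ := rfl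

theorem cl_one (l : J →* ℂˣ) : cl (1 : G) l = l := by
  apply MonoidHom.ext
  intro j
  rw [cl_apply]
  congr 1
  apply Subtype.ext
  simp

theorem cl_mul (a b : G) (l : J →* ℂˣ) : cl (a * b) l = cl b (cl a l) := by
  apply MonoidHom.ext
  intro j
  rw [cl_apply, cl_apply, cl_apply]
  congr 1
  apply Subtype.ext
  simp [mul_assoc]

theorem cl_hmul (g : G) (l m : J →* ℂˣ) : cl g (l * m) = cl g l * cl g m := rfl

theorem cl_hinv (g : G) (l : J →* ℂˣ) : cl g l⁻¹ = (cl g l)⁻¹ := rfl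

theorem cl_hone (g : G) : cl g (1 : J →* ℂˣ) = 1 := rfl

theorem cl_of_mem {g : G} (hg : g ∈ J) (l : J →* ℂˣ) : cl g l = l := by
  apply MonoidHom.ext
  intro j
  rw [cl_apply]
  have e : (⟨g * j * g⁻¹, hJ.conj_mem j j.2 g⟩ : J) = ⟨g, hg⟩ * j * ⟨g, hg⟩⁻¹ := rfl
  rw [e, map_mul, map_mul, map_inv, mul_right_comm, mul_inv_cancel, one_mul]

/-- elements acting trivially on `J` -/
theorem cl_of_comm {g : G} (hg : ∀ j ∈ J, g * j = j * g) (l : J →* ℂˣ) : cl g l = l := by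
  apply MonoidHom.ext
  intro j
  rw [cl_apply]
  congr 1
  apply Subtype.ext
  change g * j * g⁻¹ = j
  rw [hg j j.2, mul_inv_cancel_right]

theorem mem_stab_iff {g : G} {l : J →* ℂˣ} : g ∈ stab (lf l : J → ℂ) ↔ cl g l = l := by
  constructor
  · rintro ⟨-, h⟩
    apply MonoidHom.ext
    intro j
    have h1 := congrFun h j
    rw [tw_apply (mem_nrm J g)] at h1
    exact Units.ext h1
  · intro h
    refine ⟨mem_nrm J g, funext fun j => ?_⟩
    rw [tw_apply (mem_nrm J g)]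
    exact congrArg Units.val (DFunLike.congr_fun h j)

theorem mem_TL {N : Subgroup G} {g : G} {l : J →* ℂˣ} : g ∈ TL N l ↔ g ∈ N ∧ cl g l = l := by
  rw [TL, Subgroup.mem_inf, mem_stab_iff]

theorem TL_inv {N : Subgroup G} (l : J →* ℂˣ) : TL N l⁻¹ = TL N l := by
  have key : ∀ m : J →* ℂˣ, TL N m ≤ TL N m⁻¹ := by
    intro m g hg
    rw [mem_TL] at hg ⊢
    exact ⟨hg.1, by rw [cl_hinv, hg.2]⟩
  refine le_antisymm ?_ (key l)
  have h := key l⁻¹
  have e : (l⁻¹)⁻¹ = l := by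
    apply MonoidHom.ext
    intro j
    exact inv_inv (l j)
  rwa [e] at h

theorem finite_lin (K : Type v) [Group K] [Finite K] : Finite (K →* ℂˣ) := by
  haveI := finite_irr (G := K)
  exact Finite.of_injective (fun l : K →* ℂˣ => (⟨lf l, isIrr_lf l⟩ : IrrCharacter K))
    fun a b hab => lf_injective (congrArg Subtype.val hab)

/-- The action of `G` on the linear characters of `J`. -/
@[reducible] def clAct (J : Subgroup G) [hJ : J.Normal] : MulAction G (J →* ℂˣ) where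
  smul g l := cl g⁻¹ l
  one_smul l := by
    change cl (1 : G)⁻¹ l = l
    rw [inv_one, cl_one]
  mul_smul a b l := by
    change cl (a * b)⁻¹ l = cl a⁻¹ (cl b⁻¹ l)
    rw [mul_inv_rev, cl_mul]

/-- For an `r`-group `J`, an `r`-element fixes a nontrivial linear character. -/
theorem exists_fixed_lin [Finite G] {r : ℕ} (hr : r.Prime) (hJr : IsPGroup r J) {u : G} {k : ℕ}
    (huk : u ^ r ^ k = 1) {l : J →* ℂˣ} (hl : l ≠ 1) : ∃ m : J →* ℂˣ, m ≠ 1 ∧ cl u m = m := by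
  classical
  haveI := Fact.mk hr
  haveI := finite_lin J
  letI := clAct J
  have hZ : IsPGroup r (Subgroup.zpowers u) := by
    rintro ⟨_, i, rfl⟩
    refine ⟨k, Subtype.ext ?_⟩
    change (u ^ i) ^ r ^ k = 1
    rw [← zpow_natCast, ← zpow_mul, mul_comm, zpow_mul, zpow_natCast, huk, one_zpow]
  have hΛ : IsPGroup r (J →* ℂˣ) := by
    obtain ⟨a, ha⟩ := IsPGroup.iff_card.1 hJr
    intro m
    refine ⟨a, MonoidHom.ext fun j => ?_⟩
    rw [MonoidHom.pow_apply, ← map_pow, ← ha, pow_card_eq_one', map_one]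
    rfl
  have hdvd : r ∣ Nat.card (J →* ℂˣ) := by
    obtain ⟨b, hb⟩ := IsPGroup.iff_card.1 hΛ
    have : b ≠ 0 := by
      rintro rfl
      rw [pow_zero, Nat.card_eq_one_iff_unique] at hb
      exact hl (hb.1.elim l 1)
    rw [hb]
    exact dvd_pow_self r this
  have h1 : (1 : J →* ℂˣ) ∈ MulAction.fixedPoints (Subgroup.zpowers u) (J →* ℂˣ) := fun g => rfl
  obtain ⟨m, hm, hm1⟩ := hZ.exists_fixed_point_of_prime_dvd_card_of_fixed_point (J →* ℂˣ)
    hdvd h1
  refine ⟨m, Ne.symm hm1, ?_⟩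
  have h2 : cl u⁻¹ m = m := hm ⟨u, Subgroup.mem_zpowers u⟩
  conv_lhs => rw [← h2]
  rw [← cl_mul, inv_mul_cancel, cl_one]

end twist

section Y3

variable {G : Type u} [Group G] [Finite G] {N J : Subgroup G} {x : G} {p : ℕ} [hJn : J.Normal]

theorem Hyp.cl_comm (h : Hyp N J x p) {a b : G} (ha : a ∈ N) (hb : b ∈ N) (l : J →* ℂˣ) :
    cl (a * b) l = cl (b * a) l := by
  have e : a * b = ⁅a, b⁆ * (b * a) := by rw [commutatorElement_def]; group
  rw [e, cl_mul, cl_of_mem (h.ab (Subgroup.commutator_mem_commutator ha hb))]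

theorem Hyp.TL_le_diff (h : Hyp N J x p) {t : G} (ht : t ∈ N) (m : J →* ℂˣ) :
    TL N m ≤ TL N (cl t m * m⁻¹) := by
  intro n hn
  rw [mem_TL] at hn ⊢
  refine ⟨hn.1, ?_⟩
  rw [cl_hmul, cl_hinv, hn.2, ← cl_mul, h.cl_comm ht hn.1, cl_mul, hn.2]

theorem Hyp.TL_of_le (h : Hyp N J x p) {l m : J →* ℂˣ} (hl : l ≠ 1) (hm : m ≠ 1)
    (hle : TL N l ≤ TL N m) : TL N l = TL N m := by
  obtain ⟨ψ, h1, h2, -, h4⟩ := h.degL hl
  obtain ⟨ψ', h1', h2', -, h4'⟩ := h.degL hm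
  have h5 : (TL N m).relIndex N ∣ (TL N l).relIndex N := Subgroup.relIndex_dvd_of_le_left N hle
  have h6 := h.anti ψ' ψ h1' h1 h2' h2 (by rw [h4, h4']; exact h5)
  rw [h4, h4'] at h6
  have h7 := Subgroup.relIndex_mul_relIndex (TL N l) (TL N m) N hle (h.inertL m).TU
  rw [h6] at h7
  have h8 : (TL N l).relIndex (TL N m) = 1 := by
    have h9 : 0 < (TL N l).relIndex N := Nat.pos_of_ne_zero Subgroup.index_ne_zero_of_finite
    exact Nat.eq_of_mul_eq_mul_right h9 (by rw [h7, one_mul])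
  exact le_antisymm hle (Subgroup.relIndex_eq_one.1 h8)

/-- **All stabilizers of nontrivial linear characters of `J` coincide.** -/
theorem Hyp.TL_eq (h : Hyp N J x p) {l m : J →* ℂˣ} (hl : l ≠ 1) (hm : m ≠ 1) :
    TL N l = TL N m := by
  by_contra hne
  have hex : ∃ t ∈ TL N l, t ∉ TL N m := by
    by_contra hcon
    push Not at hcon
    exact hne (h.TL_of_le hl hm hcon)
  obtain ⟨t, ht, htm⟩ := hex
  have ht' := mem_TL.1 ht
  have hκ : cl t m * m⁻¹ ≠ 1 := by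
    intro e
    exact htm (mem_TL.2 ⟨ht'.1, mul_inv_eq_one.1 e⟩)
  have h2 : TL N m = TL N (cl t m * m⁻¹) := h.TL_of_le hm hκ (h.TL_le_diff ht'.1 m)
  have hν : l * m ≠ 1 := by
    intro e
    apply hne
    have e2 : l = m⁻¹ := by
      apply MonoidHom.ext
      intro j
      have := DFunLike.congr_fun e j
      rw [MonoidHom.mul_apply, MonoidHom.one_apply] at this
      exact eq_inv_of_mul_eq_one_left this
    rw [e2, TL_inv]
  have h3 : TL N (l * m) ≤ TL N (cl t m * m⁻¹) := by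
    have h4 := h.TL_le_diff ht'.1 (l * m)
    have e : cl t (l * m) * (l * m)⁻¹ = cl t m * m⁻¹ := by
      apply MonoidHom.ext
      intro j
      have e1 := DFunLike.congr_fun ht'.2 j
      change cl t l j * cl t m j * (l j * m j)⁻¹ = cl t m j * (m j)⁻¹
      rw [e1, mul_inv, mul_mul_mul_comm, mul_inv_cancel, one_mul]
    rwa [e] at h4
  have h4 : TL N (l * m) = TL N m := (h.TL_of_le hν hκ h3).trans h2.symm
  have h5 : TL N m ≤ TL N l := by
    intro n hn
    have h6 := mem_TL.1 hn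
    rw [← h4] at hn
    have h7 := mem_TL.1 hn
    refine mem_TL.2 ⟨h6.1, ?_⟩
    have h8 := h7.2
    rw [cl_hmul, h6.2] at h8
    exact mul_right_cancel h8
  exact hne (h.TL_of_le hm hl h5).symm

theorem Hyp.mem_TL_of_pow (h : Hyp N J x p) {r : ℕ} (hr : r.Prime) (hJr : IsPGroup r J) {u : G}
    (hu : u ∈ N) {k : ℕ} (huk : u ^ r ^ k = 1) {l : J →* ℂˣ} (hl : l ≠ 1) : u ∈ TL N l := by
  obtain ⟨m, hm, hm'⟩ := exists_fixed_lin hr hJr huk hl
  rw [h.TL_eq hl hm]
  exact mem_TL.2 ⟨hu, hm'⟩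

/-- `r` does not divide `|N : N₁|` if `J` is an `r`-group. -/
theorem Hyp.not_dvd_relIndex (h : Hyp N J x p) {r : ℕ} (hr : r.Prime) (hJr : IsPGroup r J)
    {l : J →* ℂˣ} (hl : l ≠ 1) : ¬ r ∣ (TL N l).relIndex N := by
  haveI := Fact.mk hr
  obtain ⟨S, hS⟩ := exists_sylIn (p := r) N
  intro hd
  apply hS.ndvd
  refine hd.trans (Subgroup.relIndex_dvd_of_le_left N ?_)
  intro u hu
  obtain ⟨k, hk⟩ := hS.pg ⟨u, hu⟩
  exact h.mem_TL_of_pow hr hJr (hS.le hu) (k := k) (by simpa using congrArg Subtype.val hk) hl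

end Y3

end Cfsg.Agent.H675.Nd
end

-- part: H675/Nd/Min
section
/-!
# A minimal counterexample: `J` is an `r`-group of class two and `r` does not divide `|N : J|`
-/

set_option autoImplicit false
set_option linter.style.haveILetI false
set_option linter.unusedSectionVars false
open Cfsg

namespace Cfsg.Agent.H675.Nd

open Cfsg.Agent.Characters.Core Cfsg.Agent.Characters.Clifford Cfsg.Agent.H672 Cfsg.Agent.H672.RM
open scoped ComplexConjugate commutatorElement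

universe u v

structure Min {G : Type u} [Group G] [Finite G] (N J : Subgroup G) (x : G) (p : ℕ) : Prop where
  hyp : Hyp N J x p
  hne : ⁅J, J⁆ ≠ ⊥
  hmin : ∀ M : Subgroup G, M.Normal → M ≠ ⊥ → M ≤ J → ⁅J, J⁆ ≤ M
  hcen : ∀ u ∈ N, u ∈ Subgroup.center G → ∀ r : ℕ, r.Prime → r ≠ p → u ^ r = 1 → u = 1

variable {G : Type u} [Group G] [Finite G] {N J : Subgroup G} {x : G} {p : ℕ} [hJn : J.Normal]

theorem Hyp.nil (h : Hyp N J x p) : Group.IsNilpotent J := by
  classical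
  by_cases hJ : J = ⊥
  · subst hJ
    haveI : Subsingleton (⊥ : Subgroup G) := inferInstance
    exact Group.isNilpotent_of_subsingleton
  let φ : J ≃* J := cj (mem_nrm J x)
  have hφ : ∀ j : J, ((φ j : J) : G) = x * j * x⁻¹ := fun _ => rfl
  have hfix : ∀ j : J, φ j = j → j = 1 := by
    intro j hj
    have h1 := congrArg Subtype.val hj
    rw [hφ] at h1
    exact Subtype.ext (h.fix j.2 (mul_inv_eq_iff_eq_mul.1 h1))
  have hpow : ∀ (k : ℕ) (j : J), (((φ ^ k : MulAut J) j : J) : G) = x ^ k * j * (x ^ k)⁻¹ := by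
    intro k
    induction k with
    | zero => intro j; simp
    | succ k ih =>
      intro j
      rw [pow_succ, MulAut.mul_apply, ih]
      change x ^ k * (x * j * x⁻¹) * (x ^ k)⁻¹ = _
      rw [pow_succ]
      group
  refine S0033.result φ (fun j hj => hfix j hj) p h.pr ?_
  haveI := Fact.mk h.pr
  refine orderOf_eq_prime ?_ ?_
  · apply MulEquiv.ext
    intro j
    apply Subtype.ext
    refine (hpow p j).trans ?_
    rw [h.xp]
    simp
  · intro e
    apply hJ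
    rw [eq_bot_iff]
    intro j hj
    have h1 : φ ⟨j, hj⟩ = ⟨j, hj⟩ := by
      rw [show (φ : MulAut J) = 1 from e]
      rfl
    exact Subgroup.mem_bot.2 (congrArg Subtype.val (hfix _ h1))

theorem Min.isPGroup (h : Min N J x p) : ∃ r : ℕ, r.Prime ∧ IsPGroup r J := by
  classical
  have hcard : Nat.card (⁅J, J⁆ : Subgroup G) ≠ 1 := fun e => h.hne (Subgroup.card_eq_one.1 e)
  obtain ⟨r, hr, hrd⟩ := Nat.exists_prime_and_dvd hcard
  refine ⟨r, hr, ?_⟩
  haveI := Fact.mk hr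
  have hnil := h.hyp.nil
  rw [IsPGroup.iff_card]
  refine ⟨_, Nat.eq_prime_pow_of_unique_prime_dvd Nat.card_pos.ne' ?_⟩
  intro q hq hqd
  by_contra hqr
  haveI := Fact.mk hq
  let Q : Sylow q J := default
  have htf := (Group.isNilpotent_of_finite_tfae (G := J)).out 0 3
  have hQn : (Q : Subgroup J).Normal := htf.1 hnil q inferInstance Q
  have hQc : (Q : Subgroup J).Characteristic := Q.characteristic_of_normal hQn
  have hM : ((Q : Subgroup J).map J.subtype).Normal := inferInstance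
  have hM1 : (Q : Subgroup J).map J.subtype ≠ ⊥ := by
    intro e
    rw [Subgroup.map_eq_bot_iff_of_injective _ J.subtype_injective] at e
    have h1 := Q.dvd_card_of_dvd_card hqd
    rw [e, Subgroup.card_bot] at h1
    exact hq.one_lt.ne' (Nat.dvd_one.1 h1)
  have h1 := h.hmin _ hM hM1 (Subgroup.map_subtype_le _)
  have h2 : Nat.card (⁅J, J⁆ : Subgroup G) ∣ Nat.card ((Q : Subgroup J).map J.subtype) :=
    Subgroup.card_dvd_of_le h1
  rw [Subgroup.card_map_of_injective J.subtype_injective] at h2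
  obtain ⟨k, hk⟩ := IsPGroup.iff_card.1 Q.isPGroup'
  have h3 : r ∣ q ^ k := by rw [← hk]; exact hrd.trans h2
  exact hqr ((Nat.prime_dvd_prime_iff_eq hr hq).1 (hr.dvd_of_dvd_pow h3)).symm

/-- The derived subgroup of `J` is central in `J`. -/
theorem Min.central' (h : Min N J x p) : ∀ z ∈ ⁅J, J⁆, ∀ j ∈ J, z * j = j * z := by
  obtain ⟨r, hr, hJr⟩ := h.isPGroup
  haveI := Fact.mk hr
  have hJ : Nontrivial J := by
    rw [Subgroup.nontrivial_iff_ne_bot]
    intro e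
    apply h.hne
    rw [e, Subgroup.commutator_bot_left]
  have hc := hJr.center_nontrivial
  have hM1 : (Subgroup.center J).map J.subtype ≠ ⊥ := by
    intro e
    rw [Subgroup.map_eq_bot_iff_of_injective _ J.subtype_injective] at e
    rw [Subgroup.nontrivial_iff_ne_bot] at hc
    exact hc e
  have h1 := h.hmin ((Subgroup.center J).map J.subtype) inferInstance hM1
    (Subgroup.map_subtype_le _)
  intro z hz j hj
  obtain ⟨w, hw, rfl⟩ := h1 hz
  have h2 := Subgroup.mem_center_iff.1 hw ⟨j, hj⟩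
  exact (congrArg Subtype.val h2).symm

theorem Min.exists_not_mem (h : Min N J x p) : ∃ j ∈ J, j ∉ ⁅J, J⁆ := by
  by_contra hcon
  push Not at hcon
  apply h.hne
  rw [eq_bot_iff, Subgroup.commutator_le]
  intro a ha b hb
  rw [Subgroup.mem_bot, commutatorElement_eq_one_iff_mul_comm]
  exact h.central' a (hcon a ha) b hb

theorem comm_le (J : Subgroup G) [J.Normal] : ⁅J, J⁆ ≤ J := Subgroup.commutator_le_left J J

theorem Min.exists_lin (h : Min N J x p) : ∃ l : J →* ℂˣ, l ≠ 1 := by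
  obtain ⟨j, hj, hj'⟩ := h.exists_not_mem
  obtain ⟨β, -, hβ⟩ := exists_lin_ne (x := (⟨j, hj⟩ : J)) (comm_le J) le_rfl hj'
  exact ⟨β, fun e => hβ (by rw [e]; rfl)⟩

theorem Min.GG (h : Min N J x p) : ⁅(⁅J, J⁆ : Subgroup G), ⁅J, J⁆⁆ ≤ ⊥ := by
  rw [Subgroup.commutator_le]
  intro a ha b hb
  rw [Subgroup.mem_bot, commutatorElement_eq_one_iff_mul_comm]
  exact h.central' a ha b (comm_le J hb)

/-- Elements of `N` acting trivially on the linear characters of `J` act trivially on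
`J / J'`. -/
theorem diff_mem {g : G} (hg : ∀ l : J →* ℂˣ, cl g l = l) {j : G} (hj : j ∈ J) :
    g * j * g⁻¹ * j⁻¹ ∈ ⁅J, J⁆ := by
  by_contra hcon
  have hm : g * j * g⁻¹ * j⁻¹ ∈ J := J.mul_mem (hJn.conj_mem j hj g) (J.inv_mem hj)
  obtain ⟨β, -, hβ⟩ := exists_lin_ne (x := (⟨_, hm⟩ : J)) (comm_le J) le_rfl hcon
  apply hβ
  have h1 := DFunLike.congr_fun (hg β) ⟨j, hj⟩
  rw [cl_apply] at h1
  have e : (⟨g * j * g⁻¹ * j⁻¹, hm⟩ : J) = ⟨g * j * g⁻¹, hJn.conj_mem j hj g⟩ * ⟨j, hj⟩⁻¹ := rfl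
  rw [e, map_mul, map_inv, h1, mul_inv_cancel]

/-- **Step 7.** `r`-elements of `N` centralizing `x` centralize `J`. -/
theorem Min.comm_of_pow (h : Min N J x p) {r : ℕ} (hr : r.Prime) (hJr : IsPGroup r J) {u : G}
    (hu : u ∈ N) (hxu : x * u = u * x) {k : ℕ} (huk : u ^ r ^ k = 1) : ∀ j ∈ J, u * j = j * u := by
  classical
  haveI : (⁅J, J⁆ : Subgroup G).Normal := inferInstance
  have hΓc := h.central'
  have hyp := h.hyp
  have hut : ∀ l : J →* ℂˣ, cl u l = l := by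
    intro l
    by_cases hl : l = 1
    · rw [hl, cl_hone]
    · exact (mem_TL.1 (hyp.mem_TL_of_pow hr hJr hu huk hl)).2
  let δ : J →* (⁅J, J⁆ : Subgroup G) := MonoidHom.mk'
    (fun j => ⟨u * j * u⁻¹ * (j : G)⁻¹, diff_mem hut j.2⟩) (by
      intro a b
      apply Subtype.ext
      change u * (a * b) * u⁻¹ * ((a : G) * b)⁻¹ = u * a * u⁻¹ * (a : G)⁻¹ * (u * b * u⁻¹ * (b : G)⁻¹)
      have h1 := hΓc _ (diff_mem hut b.2) (a : G)⁻¹ (J.inv_mem a.2)
      calc u * (a * b) * u⁻¹ * ((a : G) * b)⁻¹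
          = u * a * u⁻¹ * ((u * b * u⁻¹ * (b : G)⁻¹) * (a : G)⁻¹) := by group
        _ = u * a * u⁻¹ * ((a : G)⁻¹ * (u * b * u⁻¹ * (b : G)⁻¹)) := by rw [h1]
        _ = _ := by group)
  have hδ : ∀ j : J, ((δ j : (⁅J, J⁆ : Subgroup G)) : G) = u * j * u⁻¹ * (j : G)⁻¹ := fun _ => rfl
  intro j₀ hj₀
  by_contra hcon
  have hδ0 : ((δ ⟨j₀, hj₀⟩ : (⁅J, J⁆ : Subgroup G)) : G) ∉ (⊥ : Subgroup G) := by
    rw [hδ, Subgroup.mem_bot]
    intro e
    apply hcon
    have := mul_inv_eq_one.1 e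
    exact mul_inv_eq_iff_eq_mul.1 this
  obtain ⟨γ, -, hγ⟩ := exists_lin_ne (x := δ ⟨j₀, hj₀⟩) bot_le h.GG hδ0
  have hγ1 : γ ≠ 1 := fun e => hγ (by rw [e]; rfl)
  have hl1 : γ.comp δ ≠ 1 := fun e => hγ (DFunLike.congr_fun e ⟨j₀, hj₀⟩)
  have hst : N ⊓ stab (lf γ : (⁅J, J⁆ : Subgroup G) → ℂ) ≤ TL N (γ.comp δ) := by
    intro n hn0
    obtain ⟨hn, hn'⟩ := Subgroup.mem_inf.1 hn0
    rw [mem_stab_iff] at hn'
    obtain ⟨j, hj, c, hc, hxc, rfl⟩ := hyp.exists_mul hn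
    have h1 : ∀ ξ : (⁅J, J⁆ : Subgroup G) →* ℂˣ, cl j ξ = ξ := fun ξ =>
      cl_of_comm (fun z hz => (hΓc z hz j hj).symm) ξ
    rw [cl_mul, h1] at hn'
    refine mem_TL.2 ⟨hn, ?_⟩
    rw [cl_mul, cl_of_mem hj]
    apply MonoidHom.ext
    intro k
    rw [cl_apply]
    have huc := hyp.comm_cent hu hc hxu hxc
    have e : (δ ⟨c * k * c⁻¹, hJn.conj_mem k k.2 c⟩ : (⁅J, J⁆ : Subgroup G)) =
        ⟨c * (δ k : G) * c⁻¹, Subgroup.Normal.conj_mem inferInstance _ (δ k).2 c⟩ := by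
      apply Subtype.ext
      rw [hδ]
      change u * (c * k * c⁻¹) * u⁻¹ * (c * k * c⁻¹)⁻¹ = c * (u * k * u⁻¹ * (k : G)⁻¹) * c⁻¹
      have huc' : c⁻¹ * u⁻¹ = u⁻¹ * c⁻¹ := by
        rw [← mul_inv_rev, ← mul_inv_rev, huc]
      calc u * (c * k * c⁻¹) * u⁻¹ * (c * k * c⁻¹)⁻¹
          = (u * c) * k * (c⁻¹ * u⁻¹) * c * (k : G)⁻¹ * c⁻¹ := by group
        _ = (c * u) * k * (u⁻¹ * c⁻¹) * c * (k : G)⁻¹ * c⁻¹ := by rw [huc, huc']
        _ = _ := by group
    rw [MonoidHom.comp_apply, e]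
    exact DFunLike.congr_fun hn' (δ k)
  -- characters over `γ`
  obtain ⟨μ, hμ, hμo⟩ := exists_over_incl (comm_le J) (isIrr_lf γ)
  have hμ1 := nonlin_of_over (comm_le J) le_rfl hμ (isIrr_lf γ) (lf_ne_one hγ1) hμo
  obtain ⟨ψ, hψ, hψo⟩ := exists_over_incl hyp.JN hμ
  have hμne : μ ≠ 1 := by
    rintro rfl
    apply hμ1
    exact charDegree_of_eq (by simp)
  have hψ1 := hyp.nonlin hψ hμ hμne hψo
  have hψγ : Over (Subgroup.inclusion ((comm_le J).trans hyp.JN)) ψ (lf γ) := by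
    have e : Subgroup.inclusion ((comm_le J).trans hyp.JN) =
        (Subgroup.inclusion hyp.JN).comp (Subgroup.inclusion (comm_le J)) := rfl
    rw [e]
    exact (over_comp_iff _ _ (isIrr_isCharacter hψ) (isIrr_lf γ)).2 ⟨μ, hμ, hψo, hμo⟩
  have hd1 := dvd_of_over ((comm_le J).trans hyp.JN) (le_nrm _ N) hψ (isIrr_lf γ) hψγ
  rw [charDegree_lf, mul_one] at hd1
  have hd2 : (TL N (γ.comp δ)).relIndex N ∣ charDegree ψ := by
    refine dvd_trans ?_ hd1
    have h1 := Subgroup.relIndex_dvd_of_le_left N hst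
    rwa [inf_comm, Subgroup.inf_relIndex_right] at h1
  obtain ⟨ψ', hψ', hψ'1, -, hψ'd⟩ := hyp.degL hl1
  have heq := hyp.anti ψ' ψ hψ' hψ hψ'1 hψ1 (by rw [hψ'd]; exact hd2)
  have hrμ : r ∣ charDegree μ := by
    haveI := Fact.mk hr
    obtain ⟨a, ha⟩ := IsPGroup.iff_card.1 hJr
    have h1 := degree_dvd_card hμ
    rw [ha] at h1
    obtain ⟨b, -, hb⟩ := (Nat.dvd_prime_pow hr).1 h1
    rw [hb]
    refine dvd_pow_self r ?_
    rintro rfl
    rw [pow_zero] at hb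
    exact hμ1 hb
  apply hyp.not_dvd_relIndex hr hJr hl1
  rw [← hψ'd, heq]
  exact hrμ.trans (div_dvd_of_over hyp.JN (le_nrm _ N) hψ hμ hψo).1

end Cfsg.Agent.H675.Nd
end

-- part: H675/Nd/Gam
section
/-!
# A minimal counterexample: the characters over `J'`
-/

set_option autoImplicit false
set_option linter.style.haveILetI false
set_option linter.unusedSectionVars false
open Cfsg

namespace Cfsg.Agent.H675.Nd

open Cfsg.Agent.Characters.Core Cfsg.Agent.Characters.Clifford Cfsg.Agent.H672 Cfsg.Agent.H672.RM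
open scoped ComplexConjugate commutatorElement

universe u v

variable {G : Type u} [Group G] [Finite G] {N J : Subgroup G} {x : G} {p : ℕ} [hJn : J.Normal]

theorem Min.ne_p (h : Min N J x p) {r : ℕ} (hr : r.Prime) (hJr : IsPGroup r J) : r ≠ p := by
  rintro rfl
  haveI := Fact.mk hr
  obtain ⟨a, ha⟩ := IsPGroup.iff_card.1 hJr
  apply h.hyp.pJ
  rw [ha]
  refine dvd_pow_self r ?_
  rintro rfl
  rw [pow_zero] at ha
  apply h.hne
  rw [Subgroup.card_eq_one.1 ha, Subgroup.commutator_bot_left]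

theorem Min.eq_one_of_pow (h : Min N J x p) {r : ℕ} (hr : r.Prime) (hJr : IsPGroup r J) {u : G}
    (hu : u ∈ N) (hxu : x * u = u * x) (hur : u ^ r = 1) : u = 1 := by
  have hcJ := h.comm_of_pow hr hJr hu hxu (k := 1) (by rwa [pow_one])
  have hcN : ∀ n ∈ N, u * n = n * u := by
    intro n hn
    obtain ⟨j, hj, c, hc, hxc, rfl⟩ := h.hyp.exists_mul hn
    have h1 := h.hyp.comm_cent hu hc hxu hxc
    rw [← mul_assoc, h1, mul_assoc, hcJ j hj, mul_assoc]
  obtain ⟨l, hl⟩ := h.exists_lin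
  have huT := h.hyp.mem_TL_of_pow hr hJr hu (k := 1) (by rwa [pow_one]) hl
  have hcen : u ∈ Subgroup.center G := by
    rw [Subgroup.mem_center_iff]
    intro g
    have h1 := h.hyp.centralL hl u huT g
    have h2 : u * g * u⁻¹ * g⁻¹ = 1 := by
      apply h.hyp.fix h1
      have e1 : Commute x u := hxu
      have e2 : Commute x (g * u * g⁻¹) := by
        have h3 := hcN (g⁻¹ * x * g) (by
          have := h.hyp.nN.conj_mem x h.hyp.xN g⁻¹
          rwa [inv_inv] at this)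
        have h4 : Commute (g⁻¹ * x * g) u := h3.symm
        have h5 := h4.map (MulAut.conj g).toMonoidHom
        have e3 : (MulAut.conj g).toMonoidHom (g⁻¹ * x * g) = x := by
          change g * (g⁻¹ * x * g) * g⁻¹ = x
          group
        rw [e3] at h5
        exact h5
      have e4 : u * g * u⁻¹ * g⁻¹ = u * (g * u * g⁻¹)⁻¹ := by group
      rw [e4]
      exact e1.mul_right e2.inv_right
    have h3 : u * g = g * u := by
      have := mul_inv_eq_one.1 h2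
      exact mul_inv_eq_iff_eq_mul.1 this
    exact h3.symm
  exact h.hcen u hu hcen r hr (h.ne_p hr hJr) hur

theorem Min.not_dvd (h : Min N J x p) {r : ℕ} (hr : r.Prime) (hJr : IsPGroup r J) :
    ¬ r ∣ J.relIndex N := by
  haveI := Fact.mk hr
  haveI := h.hyp.nN
  intro hd
  have hd' : r ∣ Nat.card (N ⧸ J.subgroupOf N) := hd
  obtain ⟨q, hq⟩ := exists_prime_orderOf_dvd_card' r hd'
  obtain ⟨n, rfl⟩ := QuotientGroup.mk_surjective q
  obtain ⟨j, hj, c, hc, hxc, e⟩ := h.hyp.exists_mul n.2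
  have h1 : (n : G) ^ r ∈ J := by
    have h2 := pow_orderOf_eq_one (n : N ⧸ J.subgroupOf N)
    rw [hq, ← QuotientGroup.mk_pow, QuotientGroup.eq_one_iff, Subgroup.mem_subgroupOf] at h2
    exact h2
  have h2 : c ^ r ∈ J := by
    rw [← QuotientGroup.eq_one_iff] at h1 ⊢
    have h3 : ((n : G) : G ⧸ J) = (c : G ⧸ J) := by
      rw [e, QuotientGroup.mk_mul, (QuotientGroup.eq_one_iff j).2 hj, mul_one]
    rw [QuotientGroup.mk_pow] at h1 ⊢
    rw [← h3, h1]
  have h3 : c ^ r = 1 := h.hyp.fix h2 ((show Commute x c from hxc).pow_right r)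
  have h4 := h.eq_one_of_pow hr hJr hc hxc h3
  rw [h4, one_mul] at e
  have h5 : (n : N ⧸ J.subgroupOf N) = 1 := by
    rw [QuotientGroup.eq_one_iff, Subgroup.mem_subgroupOf, e]
    exact hj
  rw [h5, orderOf_one] at hq
  exact hr.one_lt.ne hq

/-- Every irreducible character of `J` extends to its stabilizer in `N`. -/
theorem Min.exists_extn (h : Min N J x p) (μ : J → ℂ) (hμ : IsIrrCharacter J μ) :
    ∃ χ : (N ⊓ stab μ : Subgroup G) → ℂ, IsIrrCharacter _ χ ∧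
      ∀ j : J, χ (Subgroup.inclusion (h.hyp.inert hμ).KT j) = μ j := by
  obtain ⟨r, hr, hJr⟩ := h.isPGroup
  haveI := Fact.mk hr
  obtain ⟨a, ha⟩ := IsPGroup.iff_card.1 hJr
  refine exists_ext (h.hyp.inert hμ).KT hμ inf_le_right ?_
  rw [ha]
  refine Nat.Coprime.pow_left a ((Nat.Prime.coprime_iff_not_dvd hr).2 fun hd => ?_)
  exact h.not_dvd hr hJr (hd.trans (Dvd.intro _ (Subgroup.relIndex_mul_relIndex J _ N
    (h.hyp.inert hμ).KT inf_le_left)))

theorem over_trans {A B C : Subgroup G} (hAB : A ≤ B) (hBC : B ≤ C) {ψ : C → ℂ}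
    (hψ : IsIrrCharacter C ψ) {μ : B → ℂ} (hμ : IsIrrCharacter B μ) {γ : A → ℂ}
    (hγ : IsIrrCharacter A γ) (h1 : Over (Subgroup.inclusion hBC) ψ μ)
    (h2 : Over (Subgroup.inclusion hAB) μ γ) : Over (Subgroup.inclusion (hAB.trans hBC)) ψ γ := by
  have e : Subgroup.inclusion (hAB.trans hBC) =
      (Subgroup.inclusion hBC).comp (Subgroup.inclusion hAB) := rfl
  rw [e]
  exact (over_comp_iff _ _ (isIrr_isCharacter hψ) hγ).2 ⟨μ, hμ, h1, h2⟩

/-- The stabilizer in `N` of a linear character of `J'`. -/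
theorem Min.J_le_stab (h : Min N J x p) (γ : (⁅J, J⁆ : Subgroup G) →* ℂˣ) :
    J ≤ stab (lf γ : (⁅J, J⁆ : Subgroup G) → ℂ) := by
  intro j hj
  rw [mem_stab_iff]
  exact cl_of_comm (fun z hz => (h.central' z hz j hj).symm) γ

theorem Min.res (h : Min N J x p) (γ : (⁅J, J⁆ : Subgroup G) →* ℂˣ) {μ : J → ℂ}
    (hμ : IsIrrCharacter J μ) (ho : Over (Subgroup.inclusion (comm_le J)) μ (lf γ)) :
    ∀ z : (⁅J, J⁆ : Subgroup G), μ ⟨z, comm_le J z.2⟩ = μ 1 * γ z := by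
  obtain ⟨c, hc, hc'⟩ := res_of_inv (comm_le J) (isIrr_lf γ) (h.J_le_stab γ) hμ ho
  have h1 := hc' 1
  rw [map_one, lf_apply, map_one, Units.val_one, mul_one] at h1
  intro z
  have h2 := hc' z
  rw [← h1] at h2
  exact h2

theorem Min.over_of_res (_h : Min N J x p) (γ : (⁅J, J⁆ : Subgroup G) →* ℂˣ) {μ : J → ℂ}
    (hμ : IsIrrCharacter J μ)
    (hres : ∀ z : (⁅J, J⁆ : Subgroup G), μ ⟨z, comm_le J z.2⟩ = μ 1 * γ z) :
    Over (Subgroup.inclusion (comm_le J)) μ (lf γ) := by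
  classical
  letI := Fintype.ofFinite (⁅J, J⁆ : Subgroup G)
  rw [over_iff]
  have e : μ ∘ Subgroup.inclusion (comm_le J) = μ 1 • lf γ := funext fun z => hres z
  rw [e, classInner_smul_left, classInner_irr_self (isIrr_lf γ), mul_one]
  exact isIrr_apply_one_ne_zero hμ

theorem Min.ne_one (_h : Min N J x p) {γ : (⁅J, J⁆ : Subgroup G) →* ℂˣ} (hγ : γ ≠ 1) {μ : J → ℂ}
    (hμ : IsIrrCharacter J μ) (ho : Over (Subgroup.inclusion (comm_le J)) μ (lf γ)) :
    charDegree μ ≠ 1 := nonlin_of_over (comm_le J) le_rfl hμ (isIrr_lf γ) (lf_ne_one hγ) ho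

theorem ne_one_of_deg {K : Type v} [Group K] [Finite K] {μ : K → ℂ} (h : charDegree μ ≠ 1) :
    μ ≠ 1 := by
  rintro rfl
  apply h
  exact charDegree_of_eq (by simp)

/-- The stabilizer of `μ` fixes `γ`. -/
theorem Min.stab_le (h : Min N J x p) (γ : (⁅J, J⁆ : Subgroup G) →* ℂˣ) {μ : J → ℂ}
    (hμ : IsIrrCharacter J μ) (ho : Over (Subgroup.inclusion (comm_le J)) μ (lf γ)) :
    stab μ ≤ stab (lf γ : (⁅J, J⁆ : Subgroup G) → ℂ) := by
  intro g hg
  rw [mem_stab_iff]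
  apply MonoidHom.ext
  intro z
  rw [cl_apply]
  have hres := h.res γ hμ ho
  have h1 := congrFun hg.2 ⟨z, comm_le J z.2⟩
  rw [tw_apply (mem_nrm J g)] at h1
  have hz : g * (z : G) * g⁻¹ ∈ ⁅J, J⁆ := Subgroup.Normal.conj_mem inferInstance _ z.2 g
  have h2 := hres ⟨g * (z : G) * g⁻¹, hz⟩
  have h3 := hres z
  have h4 : μ 1 * (γ ⟨g * (z : G) * g⁻¹, hz⟩ : ℂ) = μ 1 * (γ z : ℂ) := by
    rw [← h2, ← h3]
    exact h1
  exact Units.ext (mul_left_cancel₀ (isIrr_apply_one_ne_zero hμ) h4)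

theorem tw_lf_mul (g : G) (l : J →* ℂˣ) (μ : J → ℂ) : tw J g (lf l * μ) = lf (cl g l) * tw J g μ := by
  rw [tw_eq_comp (mem_nrm J g), tw_eq_comp (mem_nrm J g)]
  rfl

/-- Transitivity of the linear characters of `J` on the characters over `γ`. -/
theorem Min.trans (_h : Min N J x p) (γ : (⁅J, J⁆ : Subgroup G) →* ℂˣ) {μ μ' : J → ℂ}
    (hμ : IsIrrCharacter J μ) (ho : Over (Subgroup.inclusion (comm_le J)) μ (lf γ))
    (hμ' : IsIrrCharacter J μ') (ho' : Over (Subgroup.inclusion (comm_le J)) μ' (lf γ)) :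
    ∃ l : J →* ℂˣ, μ' = lf l * μ := by
  classical
  letI := Fintype.ofFinite J
  letI := Fintype.ofFinite ((⁅J, J⁆ : Subgroup G).subgroupOf J)
  obtain ⟨l, -, hl⟩ := Cfsg.Agent.H594.Glau.exists_linear_mul ((⁅J, J⁆ : Subgroup G).subgroupOf J)
    (fun a b => by
      rw [Subgroup.mem_subgroupOf]
      have := Subgroup.commutator_mem_commutator a.2 b.2
      rwa [commutatorElement_def] at this) hμ hμ' (isIrr_sub (comm_le J) (isIrr_lf γ))
    ((over_subtype_iff _ _ _).1 ((over_iff_sub (comm_le J) μ (lf γ)).1 ho))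
    ((over_subtype_iff _ _ _).1 ((over_iff_sub (comm_le J) μ' (lf γ)).1 ho'))
  exact ⟨l, hl⟩

theorem Min.over_mul (h : Min N J x p) (γ : (⁅J, J⁆ : Subgroup G) →* ℂˣ) {μ : J → ℂ}
    (hμ : IsIrrCharacter J μ) (ho : Over (Subgroup.inclusion (comm_le J)) μ (lf γ))
    (l : J →* ℂˣ) : Over (Subgroup.inclusion (comm_le J)) (lf l * μ) (lf γ) := by
  have hi : IsIrrCharacter J (lf l * μ) := isIrr_mul_lf l hμ
  refine h.over_of_res γ hi fun z => ?_
  have h1 := h.res γ hμ ho z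
  have h2 : l ⟨z, comm_le J z.2⟩ = 1 := hom_commutator l z.2 _
  simp only [Pi.mul_apply, lf_apply, map_one, Units.val_one, one_mul]
  rw [h2, h1, Units.val_one, one_mul]

/-- **An invariant character over `γ`** (Glauberman's lemma). -/
theorem Min.exists_inv (h : Min N J x p) (γ : (⁅J, J⁆ : Subgroup G) →* ℂˣ) :
    ∃ μ : J → ℂ, IsIrrCharacter J μ ∧ Over (Subgroup.inclusion (comm_le J)) μ (lf γ) ∧
      N ⊓ stab (lf γ : (⁅J, J⁆ : Subgroup G) → ℂ) ≤ stab μ := by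
  classical
  obtain ⟨r, hr, hJr⟩ := h.isPGroup
  haveI := Fact.mk hr
  haveI := finite_lin J
  let T : Subgroup G := N ⊓ stab (lf γ : (⁅J, J⁆ : Subgroup G) → ℂ)
  let A : Subgroup G := T ⊓ Subgroup.centralizer ({x} : Set G)
  have hAx : ∀ a ∈ A, x * a = a * x := fun a ha =>
    (Subgroup.mem_centralizer_singleton_iff.1 ha.2).symm
  let φ : A →* MulAut (J →* ℂˣ) :=
    { toFun := fun a =>
        { toFun := fun l => cl (a : G)⁻¹ l
          invFun := fun l => cl (a : G) l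
          left_inv := fun l => by
            change cl (a : G) (cl (a : G)⁻¹ l) = l
            rw [← cl_mul, inv_mul_cancel, cl_one]
          right_inv := fun l => by
            change cl (a : G)⁻¹ (cl (a : G) l) = l
            rw [← cl_mul, mul_inv_cancel, cl_one]
          map_mul' := fun l m => rfl }
      map_one' := by
        apply MulEquiv.ext
        intro l
        change cl ((1 : A) : G)⁻¹ l = l
        rw [Subgroup.coe_one, inv_one, cl_one]
      map_mul' := by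
        intro a b
        apply MulEquiv.ext
        intro l
        change cl ((a * b : A) : G)⁻¹ l = cl (a : G)⁻¹ (cl (b : G)⁻¹ l)
        rw [Subgroup.coe_mul, mul_inv_rev, cl_mul] }
  let ρ : A →* Equiv.Perm (IrrCharacter J) :=
    { toFun := fun a =>
        { toFun := fun μ => ⟨tw J (a : G)⁻¹ (μ : J → ℂ), isIrr_tw (mem_nrm J _) μ.2⟩
          invFun := fun μ => ⟨tw J (a : G) (μ : J → ℂ), isIrr_tw (mem_nrm J _) μ.2⟩
          left_inv := fun μ => Subtype.ext (by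
            change tw J (a : G) (tw J (a : G)⁻¹ (μ : J → ℂ)) = μ
            rw [← tw_mul (mem_nrm J _) (mem_nrm J _), inv_mul_cancel, tw_one])
          right_inv := fun μ => Subtype.ext (by
            change tw J (a : G)⁻¹ (tw J (a : G) (μ : J → ℂ)) = μ
            rw [← tw_mul (mem_nrm J _) (mem_nrm J _), mul_inv_cancel, tw_one]) }
      map_one' := by
        apply Equiv.ext
        intro μ
        apply Subtype.ext
        change tw J ((1 : A) : G)⁻¹ (μ : J → ℂ) = μ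
        rw [Subgroup.coe_one, inv_one, tw_one]
      map_mul' := by
        intro a b
        apply Equiv.ext
        intro μ
        apply Subtype.ext
        change tw J ((a * b : A) : G)⁻¹ (μ : J → ℂ) = tw J (a : G)⁻¹ (tw J (b : G)⁻¹ (μ : J → ℂ))
        rw [Subgroup.coe_mul, mul_inv_rev, tw_mul (mem_nrm J _) (mem_nrm J _)] }
  let σ : (J →* ℂˣ) →* Equiv.Perm (IrrCharacter J) :=
    { toFun := fun l =>
        { toFun := fun μ => ⟨lf l * (μ : J → ℂ), isIrr_mul_lf l μ.2⟩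
          invFun := fun μ => ⟨lf l⁻¹ * (μ : J → ℂ), isIrr_mul_lf l⁻¹ μ.2⟩
          left_inv := fun μ => Subtype.ext (by
            funext j
            change ((l⁻¹ j : ℂˣ) : ℂ) * ((l j : ℂ) * (μ : J → ℂ) j) = (μ : J → ℂ) j
            rw [← mul_assoc, ← Units.val_mul, MonoidHom.inv_apply, inv_mul_cancel, Units.val_one,
              one_mul])
          right_inv := fun μ => Subtype.ext (by
            funext j
            change ((l j : ℂˣ) : ℂ) * ((l⁻¹ j : ℂˣ) * (μ : J → ℂ) j) = (μ : J → ℂ) j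
            rw [← mul_assoc, ← Units.val_mul, MonoidHom.inv_apply, mul_inv_cancel, Units.val_one,
              one_mul]) }
      map_one' := by
        apply Equiv.ext
        intro μ
        apply Subtype.ext
        funext j
        change (((1 : J →* ℂˣ) j : ℂˣ) : ℂ) * (μ : J → ℂ) j = (μ : J → ℂ) j
        rw [MonoidHom.one_apply, Units.val_one, one_mul]
      map_mul' := by
        intro l m
        apply Equiv.ext
        intro μ
        apply Subtype.ext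
        funext j
        change (((l * m) j : ℂˣ) : ℂ) * (μ : J → ℂ) j = (l j : ℂ) * ((m j : ℂ) * (μ : J → ℂ) j)
        rw [MonoidHom.mul_apply, Units.val_mul, mul_assoc] }
  have hφ : ∀ (a : A) (l : J →* ℂˣ), φ a l = cl (a : G)⁻¹ l := fun _ _ => rfl
  have hρ : ∀ (a : A) (μ : IrrCharacter J), ((ρ a μ : IrrCharacter J) : J → ℂ) =
      tw J (a : G)⁻¹ (μ : J → ℂ) := fun _ _ => rfl
  have hσ : ∀ (l : J →* ℂˣ) (μ : IrrCharacter J), ((σ l μ : IrrCharacter J) : J → ℂ) =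
      lf l * (μ : J → ℂ) := fun _ _ => rfl
  have hcop : (Nat.card A).Coprime (Nat.card (J →* ℂˣ)) := by
    obtain ⟨a, ha⟩ := IsPGroup.iff_card.1 hJr
    have hΛ : IsPGroup r (J →* ℂˣ) := by
      intro m
      refine ⟨a, MonoidHom.ext fun j => ?_⟩
      rw [MonoidHom.pow_apply, ← map_pow, ← ha, pow_card_eq_one', map_one]
      rfl
    obtain ⟨b, hb⟩ := IsPGroup.iff_card.1 hΛ
    rw [hb]
    refine Nat.Coprime.pow_right b ((Nat.Prime.coprime_iff_not_dvd hr).2 fun hd => ?_).symm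
    obtain ⟨a, ha⟩ := exists_prime_orderOf_dvd_card' r hd
    have h1 : (a : G) ^ r = 1 := by
      have h2 := pow_orderOf_eq_one a
      rw [ha] at h2
      have := congrArg Subtype.val h2
      simpa using this
    have h2 := h.eq_one_of_pow hr hJr a.2.1.1 (hAx a a.2) h1
    have h3 : a = 1 := Subtype.ext h2
    rw [h3, orderOf_one] at ha
    exact hr.one_lt.ne ha
  obtain ⟨μ₀, hμ₀, hμ₀o⟩ := exists_over_incl (comm_le J) (isIrr_lf γ)
  obtain ⟨⟨μ, hμS, hμ⟩, -⟩ := H566.glaub hcop (Or.inr inferInstance) φ ρ σ (by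
      intro a l μ
      apply Subtype.ext
      rw [hρ, hσ, hσ, hρ, hφ]
      exact tw_lf_mul _ _ _)
    {μ : IrrCharacter J | Over (Subgroup.inclusion (comm_le J)) (μ : J → ℂ) (lf γ)}
    ⟨⟨μ₀, hμ₀⟩, hμ₀o⟩ (by
      intro a μ hμ
      change Over _ _ _
      rw [hρ]
      have h1 : tw (⁅J, J⁆ : Subgroup G) (a : G)⁻¹ (lf γ) = lf γ :=
        (Subgroup.inv_mem (stab (lf γ : (⁅J, J⁆ : Subgroup G) → ℂ)) a.2.1.2).2
      rw [← h1]
      exact (over_tw_tw (comm_le J) (mem_nrm _ _) (mem_nrm _ _) _ _).2 hμ) (by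
      intro l μ hμ
      exact h.over_mul γ μ.2 hμ l) (by
      intro μ hμ μ' hμ'
      obtain ⟨l, hl⟩ := h.trans γ μ.2 hμ μ'.2 hμ'
      exact ⟨l, Subtype.ext hl.symm⟩)
  refine ⟨μ, μ.2, hμS, ?_⟩
  intro t ht
  obtain ⟨j, hj, c, hc, hxc, rfl⟩ := h.hyp.exists_mul ht.1
  have hjs : j ∈ stab (μ : J → ℂ) := le_stab (isIrr_isClassFunction μ.2) hj
  have hcT : c ∈ T := by
    have e : c = (c * j) * j⁻¹ := by group
    rw [e]
    exact T.mul_mem ht (T.inv_mem ⟨h.hyp.JN hj, h.J_le_stab γ hj⟩)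
  have hcA : c ∈ A := ⟨hcT, Subgroup.mem_centralizer_singleton_iff.2 hxc.symm⟩
  refine (stab (μ : J → ℂ)).mul_mem ⟨mem_nrm J c, ?_⟩ hjs
  have h1 := congrArg (Subtype.val : IrrCharacter J → (J → ℂ)) (hμ (⟨c, hcA⟩⁻¹ : A))
  rw [hρ] at h1
  simpa using h1

end Cfsg.Agent.H675.Nd
end

-- part: H675/Nd/Gam2
section
/-!
# A minimal counterexample: stabilizers of the characters of `J'`, and `|J'| < |J : J'|`
-/

set_option autoImplicit false
set_option linter.style.haveILetI false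
set_option linter.unusedSectionVars false
open Cfsg

namespace Cfsg.Agent.H675.Nd

open Cfsg.Agent.Characters.Core Cfsg.Agent.Characters.Clifford Cfsg.Agent.H672 Cfsg.Agent.H672.RM
open scoped ComplexConjugate commutatorElement

universe u v

variable {G : Type u} [Group G] [Finite G] {N J : Subgroup G} {x : G} {p : ℕ} [hJn : J.Normal]

/-- The stabilizer in `N` of `γ`. -/
theorem Min.TG (h : Min N J x p) {γ : (⁅J, J⁆ : Subgroup G) →* ℂˣ} (hγ : γ ≠ 1) {μ : J → ℂ}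
    (hμ : IsIrrCharacter J μ) (ho : Over (Subgroup.inclusion (comm_le J)) μ (lf γ)) :
    N ⊓ stab μ = N ⊓ stab (lf γ : (⁅J, J⁆ : Subgroup G) → ℂ) := by
  obtain ⟨μ₀, hμ₀, ho₀, hT⟩ := h.exists_inv γ
  have e0 : N ⊓ stab μ₀ = N ⊓ stab (lf γ : (⁅J, J⁆ : Subgroup G) → ℂ) :=
    le_antisymm (inf_le_inf_left N (h.stab_le γ hμ₀ ho₀)) (le_inf inf_le_left hT)
  have hle : N ⊓ stab μ ≤ N ⊓ stab (lf γ : (⁅J, J⁆ : Subgroup G) → ℂ) :=
    inf_le_inf_left N (h.stab_le γ hμ ho)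
  obtain ⟨χ₀, hχ₀, hχ₀'⟩ := h.exists_extn μ₀ hμ₀
  obtain ⟨ψ₀, hψ₀, hψ₀1, -, hd₀⟩ := h.hyp.deg hμ₀ (ne_one_of_deg (h.ne_one hγ hμ₀ ho₀)) hχ₀ hχ₀'
  obtain ⟨χ, hχ, hχ'⟩ := h.exists_extn μ hμ
  obtain ⟨ψ, hψ, hψ1, -, hd⟩ := h.hyp.deg hμ (ne_one_of_deg (h.ne_one hγ hμ ho)) hχ hχ'
  have hdeg : charDegree μ = charDegree μ₀ := by
    obtain ⟨l, rfl⟩ := h.trans γ hμ₀ ho₀ hμ ho
    exact charDegree_mul_lf l μ₀
  rw [e0] at hd₀
  rw [hdeg] at hd
  have h1 : (N ⊓ stab (lf γ : (⁅J, J⁆ : Subgroup G) → ℂ)).relIndex N ∣ (N ⊓ stab μ).relIndex N :=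
    Subgroup.relIndex_dvd_of_le_left N hle
  have h2 := h.hyp.anti ψ₀ ψ hψ₀ hψ hψ₀1 hψ1 (by rw [hd₀, hd]; exact Nat.mul_dvd_mul_right h1 _)
  rw [hd₀, hd] at h2
  have h3 := Nat.eq_of_mul_eq_mul_right (charDegree_pos hμ₀) h2
  have h4 := Subgroup.relIndex_mul_relIndex _ _ N hle inf_le_left
  rw [h3] at h4
  have h5 : (N ⊓ stab μ).relIndex (N ⊓ stab (lf γ : (⁅J, J⁆ : Subgroup G) → ℂ)) = 1 := by
    have h9 : 0 < (N ⊓ stab μ).relIndex N := Nat.pos_of_ne_zero Subgroup.index_ne_zero_of_finite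
    exact Nat.eq_of_mul_eq_mul_right h9 (by rw [h4, one_mul])
  exact le_antisymm hle (Subgroup.relIndex_eq_one.1 h5)

theorem Min.centralG (h : Min N J x p) {γ : (⁅J, J⁆ : Subgroup G) →* ℂˣ} (hγ : γ ≠ 1) :
    ∀ t ∈ N ⊓ stab (lf γ : (⁅J, J⁆ : Subgroup G) → ℂ), ∀ g : G, t * g * t⁻¹ * g⁻¹ ∈ J := by
  obtain ⟨μ, hμ, ho⟩ := exists_over_incl (comm_le J) (isIrr_lf γ)
  obtain ⟨χ, hχ, hχ'⟩ := h.exists_extn μ hμ
  rw [← h.TG hγ hμ ho]
  exact h.hyp.central hμ (ne_one_of_deg (h.ne_one hγ hμ ho)) hχ hχ'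

/-- `N ∩ stab γ` centralizes `J'`. -/
theorem Min.TG_comm (h : Min N J x p) {γ : (⁅J, J⁆ : Subgroup G) →* ℂˣ} (hγ : γ ≠ 1) {t : G}
    (ht : t ∈ N ⊓ stab (lf γ : (⁅J, J⁆ : Subgroup G) → ℂ)) :
    ∀ z ∈ ⁅J, J⁆, t * z = z * t := by
  set T : Subgroup G := N ⊓ stab (lf γ : (⁅J, J⁆ : Subgroup G) → ℂ) with hT
  haveI := h.hyp.nN
  have hJT : J ≤ T := le_inf h.hyp.JN (h.J_le_stab γ)
  have hTn : T.Normal := by
    constructor
    intro t ht g
    have h1 := h.centralG hγ t⁻¹ (T.inv_mem ht) g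
    rw [inv_inv] at h1
    have e : g * t * g⁻¹ = t * (t⁻¹ * g * t * g⁻¹) := by group
    rw [e]
    exact T.mul_mem ht (hJT h1)
  by_contra hcon
  have hM : ⁅T, (⁅J, J⁆ : Subgroup G)⁆ ≠ ⊥ := by
    intro e
    apply hcon
    intro z hz
    have h1 := Subgroup.commutator_mem_commutator ht hz
    rw [e, Subgroup.mem_bot, commutatorElement_eq_one_iff_mul_comm] at h1
    exact h1
  have hle : ⁅T, (⁅J, J⁆ : Subgroup G)⁆ ≤ ⁅J, J⁆ := Subgroup.commutator_le_right T _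
  have h1 := h.hmin _ inferInstance hM (hle.trans (comm_le J))
  apply hγ
  have h2 : ⁅T, (⁅J, J⁆ : Subgroup G)⁆ ≤ (γ.ker).map (⁅J, J⁆ : Subgroup G).subtype := by
    rw [Subgroup.commutator_le]
    intro t ht z hz
    have hz' : t * z * t⁻¹ ∈ ⁅J, J⁆ := Subgroup.Normal.conj_mem inferInstance z hz t
    refine ⟨⟨t * z * t⁻¹, hz'⟩ * ⟨z, hz⟩⁻¹, ?_, by
      rw [commutatorElement_def]; rfl⟩
    rw [SetLike.mem_coe, MonoidHom.mem_ker, map_mul, map_inv]
    have h3 := DFunLike.congr_fun (mem_stab_iff.1 ht.2) ⟨z, hz⟩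
    rw [cl_apply] at h3
    rw [h3, mul_inv_cancel]
  apply MonoidHom.ext
  intro z
  obtain ⟨w, hw, hw'⟩ := h2 (h1 z.2)
  have e : w = z := Subtype.ext hw'
  rw [← e]
  exact hw

/-- The elements of `N` acting trivially on the linear characters of `J` centralize `J'`. -/
theorem Min.N1_comm (_h : Min N J x p) {n : G} (hn : ∀ l : J →* ℂˣ, cl n l = l)
    (hc : ∀ z ∈ ⁅J, J⁆, ∀ j ∈ J, z * j = j * z) : ∀ z ∈ ⁅J, J⁆, n * z = z * n := by
  have h1 : ⁅J, J⁆ ≤ Subgroup.centralizer ({n} : Set G) := by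
    rw [Subgroup.commutator_le]
    intro a ha b hb
    rw [Subgroup.mem_centralizer_singleton_iff]
    have ha' := diff_mem hn ha
    have hb' := diff_mem hn hb
    set z := n * a * n⁻¹ * a⁻¹ with hz
    set w := n * b * n⁻¹ * b⁻¹ with hw
    have e1 : n * a * n⁻¹ = z * a := by rw [hz]; group
    have e2 : n * b * n⁻¹ = w * b := by rw [hw]; group
    have hzC : ∀ j ∈ J, z * j = j * z := hc z ha'
    have hwC : ∀ j ∈ J, w * j = j * w := hc w hb'
    have hwJ : w ∈ J := comm_le J hb'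
    have e3 : n * ⁅a, b⁆ * n⁻¹ = ⁅a, b⁆ := by
      have e4 : n * ⁅a, b⁆ * n⁻¹ = ⁅n * a * n⁻¹, n * b * n⁻¹⁆ := by
        rw [commutatorElement_def, commutatorElement_def]; group
      rw [e4, e1, e2, commutatorElement_def, commutatorElement_def]
      have c1 : Commute z a := hzC a ha
      have c2 : Commute z b := hzC b hb
      have c3 : Commute z w := hzC w hwJ
      have c4 : Commute w a := hwC a ha
      have c5 : Commute w b := hwC b hb
      calc z * a * (w * b) * (z * a)⁻¹ * (w * b)⁻¹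
          = z * (a * w) * b * a⁻¹ * z⁻¹ * b⁻¹ * w⁻¹ := by group
        _ = z * (w * a) * b * a⁻¹ * z⁻¹ * b⁻¹ * w⁻¹ := by rw [c4.eq]
        _ = z * w * (a * b * a⁻¹) * (z⁻¹ * b⁻¹) * w⁻¹ := by group
        _ = z * w * (a * b * a⁻¹) * (b⁻¹ * z⁻¹) * w⁻¹ := by rw [c2.inv_left.inv_right.eq]
        _ = z * w * ((a * b * a⁻¹ * b⁻¹) * (z⁻¹ * w⁻¹)) := by group
        _ = z * w * ((z⁻¹ * w⁻¹) * (a * b * a⁻¹ * b⁻¹)) := by
            have c6 : Commute (a * b * a⁻¹ * b⁻¹) (z⁻¹ * w⁻¹) := by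
              refine Commute.mul_right ?_ ?_
              · exact (((c1.symm.mul_left c2.symm).mul_left c1.symm.inv_left).mul_left
                  c2.symm.inv_left).inv_right
              · exact (((c4.symm.mul_left c5.symm).mul_left c4.symm.inv_left).mul_left
                  c5.symm.inv_left).inv_right
            rw [c6.eq]
        _ = z * (w * z⁻¹) * w⁻¹ * (a * b * a⁻¹ * b⁻¹) := by group
        _ = z * (z⁻¹ * w) * w⁻¹ * (a * b * a⁻¹ * b⁻¹) := by rw [c3.symm.inv_right.eq]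
        _ = a * b * a⁻¹ * b⁻¹ := by group
    exact (mul_inv_eq_iff_eq_mul.1 e3).symm
  intro z hz
  exact (Subgroup.mem_centralizer_singleton_iff.1 (h1 hz)).symm

/-- `N₁ < N ∩ stab γ`. -/
theorem Min.exists_outside (h : Min N J x p) {γ : (⁅J, J⁆ : Subgroup G) →* ℂˣ} (hγ : γ ≠ 1)
    {l : J →* ℂˣ} (hl : l ≠ 1) :
    ∃ n ∈ N ⊓ stab (lf γ : (⁅J, J⁆ : Subgroup G) → ℂ), n ∉ TL N l := by
  by_contra hcon
  push Not at hcon
  obtain ⟨μ, hμ, ho⟩ := exists_over_incl (comm_le J) (isIrr_lf γ)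
  obtain ⟨χ, hχ, hχ'⟩ := h.exists_extn μ hμ
  obtain ⟨ψ, hψ, hψ1, -, hd⟩ := h.hyp.deg hμ (ne_one_of_deg (h.ne_one hγ hμ ho)) hχ hχ'
  rw [h.TG hγ hμ ho] at hd
  obtain ⟨ψ', hψ', hψ'1, -, hd'⟩ := h.hyp.degL hl
  have hdvd : (TL N l).relIndex N ∣ charDegree ψ := by
    rw [hd]
    exact (Subgroup.relIndex_dvd_of_le_left N hcon).mul_right _
  have heq := h.hyp.anti ψ' ψ hψ' hψ hψ'1 hψ1 (by rw [hd']; exact hdvd)
  obtain ⟨r, hr, hJr⟩ := h.isPGroup
  apply h.hyp.not_dvd_relIndex hr hJr hl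
  rw [← hd', heq, hd]
  haveI := Fact.mk hr
  obtain ⟨a, ha⟩ := IsPGroup.iff_card.1 hJr
  have h1 := degree_dvd_card hμ
  rw [ha] at h1
  obtain ⟨b, -, hb⟩ := (Nat.dvd_prime_pow hr).1 h1
  rw [hb]
  refine (dvd_pow_self r ?_).mul_left _
  rintro rfl
  rw [pow_zero] at hb
  exact h.ne_one hγ hμ ho hb

/-- Characters over `γ ≠ 1` vanish on `J ∖ J'`. -/
theorem Min.vanish (h : Min N J x p) {γ : (⁅J, J⁆ : Subgroup G) →* ℂˣ} (hγ : γ ≠ 1) {μ : J → ℂ}
    (hμ : IsIrrCharacter J μ) (ho : Over (Subgroup.inclusion (comm_le J)) μ (lf γ)) {j : J}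
    (hj : (j : G) ∉ ⁅J, J⁆) : μ j = 0 := by
  obtain ⟨l₀, hl₀⟩ := h.exists_lin
  obtain ⟨n, hn, hn'⟩ := h.exists_outside hγ hl₀
  haveI := finite_lin J
  let f : (J →* ℂˣ) →* (J →* ℂˣ) :=
    { toFun := fun l => cl n l * l⁻¹
      map_one' := by
        apply MonoidHom.ext
        intro j
        change (1 : ℂˣ) * (1 : ℂˣ)⁻¹ = 1
        rw [inv_one, one_mul]
      map_mul' := fun l m => by
        apply MonoidHom.ext
        intro j
        change cl n l j * cl n m j * (l j * m j)⁻¹ = cl n l j * (l j)⁻¹ * (cl n m j * (m j)⁻¹)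
        rw [mul_inv, mul_mul_mul_comm] }
  have hf : Function.Injective f := by
    rw [injective_iff_map_eq_one]
    intro l hl
    by_contra hl1
    apply hn'
    rw [h.hyp.TL_eq hl₀ hl1]
    refine mem_TL.2 ⟨hn.1, ?_⟩
    apply MonoidHom.ext
    intro j
    have h1 := DFunLike.congr_fun hl j
    change cl n l j * (l j)⁻¹ = 1 at h1
    exact mul_inv_eq_one.1 h1
  have hs := Finite.surjective_of_injective hf
  obtain ⟨κ, -, hκ⟩ := exists_lin_ne (x := j) (comm_le J) le_rfl hj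
  obtain ⟨l, rfl⟩ := hs κ
  have hst : ∀ μ' : J → ℂ, IsIrrCharacter J μ' →
      Over (Subgroup.inclusion (comm_le J)) μ' (lf γ) → tw J n μ' = μ' := by
    intro μ' hμ' ho'
    rw [← h.TG hγ hμ' ho'] at hn
    exact hn.2.2
  have h1 := hst μ hμ ho
  have h2 := hst (lf l * μ) (isIrr_mul_lf l hμ) (h.over_mul γ hμ ho l)
  rw [tw_lf_mul, h1] at h2
  have h3 := congrFun h2 j
  simp only [Pi.mul_apply, lf_apply] at h3
  by_contra hμj
  have h4 := mul_right_cancel₀ hμj h3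
  have h5 : cl n l j = l j := Units.ext h4
  apply hκ
  change cl n l j * (l j)⁻¹ = 1
  rw [h5, mul_inv_cancel]

/-- For `g ∈ J ∖ J'` and `γ ≠ 1` there is `k` with `γ ⁅g, k⁆ ≠ 1`. -/
theorem Min.exists_comm_ne (h : Min N J x p) {γ : (⁅J, J⁆ : Subgroup G) →* ℂˣ} (hγ : γ ≠ 1) {g : G}
    (hg : g ∈ J) (hg' : g ∉ ⁅J, J⁆) :
    ∃ (k : G) (hk : k ∈ J), γ ⟨⁅g, k⁆, Subgroup.commutator_mem_commutator hg hk⟩ ≠ 1 := by
  by_contra hcon
  push Not at hcon
  obtain ⟨μ, hμ, ho⟩ := exists_over_incl (comm_le J) (isIrr_lf γ)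
  have h1 := h.vanish hγ hμ ho (j := ⟨g, hg⟩) hg'
  have h2 := Cfsg.Agent.H597.Norm.normSq_eq_of_central hμ (z := (⟨g, hg⟩ : J)) (by
    intro k
    have hm : (k : G) * g * (k : G)⁻¹ * g⁻¹ ∈ ⁅J, J⁆ := by
      have := Subgroup.commutator_mem_commutator k.2 hg
      rwa [commutatorElement_def] at this
    have h3 := h.res γ hμ ho ⟨_, hm⟩
    have h4 := hcon k k.2
    have e : (⟨(k : G) * g * (k : G)⁻¹ * g⁻¹, hm⟩ : (⁅J, J⁆ : Subgroup G)) =
        (⟨⁅g, (k : G)⁆, Subgroup.commutator_mem_commutator hg k.2⟩ : (⁅J, J⁆ : Subgroup G))⁻¹ := by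
      apply Subtype.ext
      change _ = ⁅g, (k : G)⁆⁻¹
      rw [commutatorElement_def]
      group
    rw [e, map_inv, h4, inv_one, Units.val_one, mul_one, ← e] at h3
    exact h3)
  rw [h1, map_zero] at h2
  have h3 : (charDegree μ : ℝ) = 0 := by
    have := h2.symm
    exact pow_eq_zero_iff (two_ne_zero) |>.1 this
  exact (charDegree_pos hμ).ne' (by exact_mod_cast h3)

/-- `|J'| < |J : J'|`, in terms of linear characters. -/
theorem Min.card_lt (h : Min N J x p) :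
    Nat.card ((⁅J, J⁆ : Subgroup G) →* ℂˣ) < Nat.card (J →* ℂˣ) := by
  classical
  haveI := finite_lin J
  haveI := finite_lin (⁅J, J⁆ : Subgroup G)
  obtain ⟨g, hg, hg'⟩ := h.exists_not_mem
  have hc := h.central'
  let D : J →* (⁅J, J⁆ : Subgroup G) := MonoidHom.mk'
    (fun k => ⟨⁅g, (k : G)⁆, Subgroup.commutator_mem_commutator hg k.2⟩) (by
      intro a b
      apply Subtype.ext
      change ⁅g, (a : G) * b⁆ = ⁅g, (a : G)⁆ * ⁅g, (b : G)⁆
      have h1 := hc _ (Subgroup.commutator_mem_commutator hg b.2) (a : G)⁻¹ (J.inv_mem a.2)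
      calc ⁅g, (a : G) * b⁆ = g * a * g⁻¹ * (⁅g, (b : G)⁆ * (a : G)⁻¹) := by
            rw [commutatorElement_def, commutatorElement_def]; group
        _ = g * a * g⁻¹ * ((a : G)⁻¹ * ⁅g, (b : G)⁆) := by rw [h1]
        _ = _ := by rw [commutatorElement_def, commutatorElement_def]; group)
  let F : ((⁅J, J⁆ : Subgroup G) →* ℂˣ) → (J →* ℂˣ) := fun γ => γ.comp D
  have hF : Function.Injective F := by
    intro γ γ' hγ
    by_contra hne
    have h1 : γ * γ'⁻¹ ≠ 1 := by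
      intro e
      apply hne
      apply MonoidHom.ext
      intro z
      have h2 := DFunLike.congr_fun e z
      change γ z * (γ' z)⁻¹ = 1 at h2
      exact mul_inv_eq_one.1 h2
    obtain ⟨k, hk, h2⟩ := h.exists_comm_ne h1 hg hg'
    apply h2
    have h3 := DFunLike.congr_fun hγ ⟨k, hk⟩
    change γ (D ⟨k, hk⟩) = γ' (D ⟨k, hk⟩) at h3
    change γ (D ⟨k, hk⟩) * (γ' (D ⟨k, hk⟩))⁻¹ = 1
    rw [h3, mul_inv_cancel]
  obtain ⟨κ, -, hκ⟩ := exists_lin_ne (x := (⟨g, hg⟩ : J)) (comm_le J) le_rfl hg'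
  have hns : κ ∉ Set.range F := by
    rintro ⟨γ, rfl⟩
    apply hκ
    change γ (D ⟨g, hg⟩) = 1
    have e : D ⟨g, hg⟩ = 1 := by
      apply Subtype.ext
      change ⁅g, g⁆ = 1
      exact commutatorElement_self g
    rw [e, map_one]
  have h1 : Nat.card ((⁅J, J⁆ : Subgroup G) →* ℂˣ) = (Set.range F).ncard :=
    (Set.ncard_range_of_injective hF).symm
  rw [h1, ← Set.ncard_univ]
  refine Set.ncard_lt_ncard ?_ (Set.toFinite _)
  rw [Set.ssubset_univ_iff]
  intro e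
  exact hns (e ▸ Set.mem_univ κ)

end Cfsg.Agent.H675.Nd
end

-- part: H675/Nd/Count
section
/-!
# Counting the linear characters of a normal subgroup by their stabilizers
-/

set_option autoImplicit false
set_option linter.style.haveILetI false
set_option linter.unusedSectionVars false
open Cfsg

namespace Cfsg.Agent.H675.Nd

open Cfsg.Agent.H672 Cfsg.Agent.H672.RM
open scoped commutatorElement Pointwise

universe u v

/-- Complements to `N / M` in `G / M` are conjugate. -/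
theorem conj_compl {G : Type u} [Group G] [Finite G] {M N T₁ T₂ : Subgroup G} [hMn : M.Normal]
    [N.Normal] (hMN : M ≤ N) (hab : ⁅N, N⁆ ≤ M) (h1 : N ⊓ T₁ = M)
    (h1' : ∀ g : G, ∃ s ∈ T₁, ∃ n ∈ N, g = s * n) (h2 : N ⊓ T₂ = M)
    (h2' : ∀ g : G, ∃ s ∈ T₂, ∃ n ∈ N, g = s * n) (hcop : (M.relIndex N).Coprime N.index) :
    ∃ n ∈ N, ∀ t, t ∈ T₁ ↔ n * t * n⁻¹ ∈ T₂ := by
  classical
  let π := QuotientGroup.mk' M
  have hπ : Function.Surjective π := QuotientGroup.mk'_surjective M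
  have hπ1 : ∀ g : G, π g = 1 ↔ g ∈ M := fun g => QuotientGroup.eq_one_iff g
  have hπ2 : ∀ a b : G, π a = π b → a⁻¹ * b ∈ M := fun a b h => QuotientGroup.eq.1 h
  let A := N.map π
  haveI hA : A.Normal := Subgroup.Normal.map inferInstance π hπ
  haveI hAc : IsMulCommutative A := by
    refine ⟨⟨?_⟩⟩
    rintro ⟨_, a, ha, rfl⟩ ⟨_, b, hb, rfl⟩
    apply Subtype.ext
    change π a * π b = π b * π a
    have h3 := (hπ1 _).2 (hab (Subgroup.commutator_mem_commutator ha hb))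
    rw [map_commutatorElement, commutatorElement_eq_one_iff_mul_comm] at h3
    exact h3
  have hcA : Nat.card A = M.relIndex N := by
    rw [← Subgroup.relIndex_ker, QuotientGroup.ker_mk']
  have hiA : A.index = N.index := by
    rw [Subgroup.index_map, QuotientGroup.ker_mk', sup_of_le_left hMN,
      MonoidHom.range_eq_top.2 hπ, Subgroup.index_top, mul_one]
  have hcompl : ∀ T : Subgroup G, N ⊓ T = M → (∀ g : G, ∃ s ∈ T, ∃ n ∈ N, g = s * n) →
      Subgroup.IsComplement' A (T.map π) := by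
    intro T hT hT'
    have hMT : M ≤ T := hT ▸ inf_le_right
    refine Subgroup.isComplement'_of_disjoint_and_mul_eq_univ ?_ ?_
    · rw [Subgroup.disjoint_def]
      rintro _ ⟨n, hn, rfl⟩ ⟨t, ht, htn⟩
      have h3 := hπ2 t n htn
      have h4 : n ∈ T := by
        have := T.mul_mem ht (hMT h3)
        rwa [mul_inv_cancel_left] at this
      have h5 : n ∈ N ⊓ T := ⟨hn, h4⟩
      rw [hT] at h5
      exact (hπ1 n).2 h5
    · rw [Set.eq_univ_iff_forall]
      intro q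
      obtain ⟨g, rfl⟩ := hπ q
      obtain ⟨s, hs, n, hn, e⟩ := hT' g⁻¹
      refine ⟨π n⁻¹, ⟨n⁻¹, N.inv_mem hn, rfl⟩, π s⁻¹, ⟨s⁻¹, T.inv_mem hs, rfl⟩, ?_⟩
      change π n⁻¹ * π s⁻¹ = π g
      rw [← map_mul, ← mul_inv_rev, ← e, inv_inv]
  obtain ⟨a, ⟨n, hn, rfl⟩, ha⟩ := S0002.result A (by rw [hcA, hiA]; exact hcop) (T₁.map π) (T₂.map π)
    (hcompl T₁ h1 h1') (hcompl T₂ h2 h2')
  have hmem : ∀ T : Subgroup G, N ⊓ T = M → ∀ g, g ∈ T ↔ π g ∈ T.map π := by
    intro T hT g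
    refine ⟨fun h => ⟨g, h, rfl⟩, ?_⟩
    rintro ⟨t, ht, htg⟩
    have hMT : M ≤ T := hT ▸ inf_le_right
    have := T.mul_mem ht (hMT (hπ2 t g htg))
    rwa [mul_inv_cancel_left] at this
  refine ⟨n, hn, fun t => ?_⟩
  rw [hmem T₁ h1, hmem T₂ h2, ← ha, Subgroup.mem_pointwise_smul_iff_inv_smul_mem]
  have e : (MulAut.conj (π n))⁻¹ • π (n * t * n⁻¹) = π t := by
    rw [← map_inv]
    change (π n)⁻¹ * π (n * t * n⁻¹) * ((π n)⁻¹)⁻¹ = π t
    rw [map_mul, map_mul, map_inv]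
    group
  rw [e]

/-- The elements of `N` central modulo `J`. -/
def NZ {G : Type u} [Group G] (N J : Subgroup G) [J.Normal] : Subgroup G :=
  N ⊓ (Subgroup.center (G ⧸ J)).comap (QuotientGroup.mk' J)

theorem mem_NZ {G : Type u} [Group G] {N J : Subgroup G} [J.Normal] {n : G} :
    n ∈ NZ N J ↔ n ∈ N ∧ ∀ g : G, n * g * n⁻¹ * g⁻¹ ∈ J := by
  rw [NZ, Subgroup.mem_inf, Subgroup.mem_comap, Subgroup.mem_center_iff]
  refine and_congr_right fun _ => ?_
  constructor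
  · intro h g
    have h1 := h (g : G ⧸ J)
    rw [QuotientGroup.mk'_apply] at h1
    rw [← QuotientGroup.eq_one_iff]
    simp only [QuotientGroup.mk_mul, QuotientGroup.mk_inv]
    rw [← h1]
    group
  · intro h q
    obtain ⟨g, rfl⟩ := QuotientGroup.mk_surjective q
    have h1 := h g
    rw [← QuotientGroup.eq_one_iff] at h1
    simp only [QuotientGroup.mk_mul, QuotientGroup.mk_inv] at h1
    rw [mul_inv_eq_one, mul_inv_eq_iff_eq_mul] at h1
    exact h1.symm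

/-- Powers of a central commutator. -/
theorem comm_pow_left {Q : Type u} [Group Q] {a b c : Q} (hc : a * b * a⁻¹ = c * b)
    (hca : a * c = c * a) (k : ℕ) : a ^ k * b * (a ^ k)⁻¹ = c ^ k * b := by
  induction k with
  | zero => simp
  | succ k ih =>
    have h1 : Commute a c := hca
    calc a ^ (k + 1) * b * (a ^ (k + 1))⁻¹ = a * (a ^ k * b * (a ^ k)⁻¹) * a⁻¹ := by
          rw [pow_succ']; group
      _ = (a * c ^ k) * b * a⁻¹ := by rw [ih]; group
      _ = c ^ k * (a * b * a⁻¹) := by rw [(h1.pow_right k).eq]; group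
      _ = c ^ (k + 1) * b := by rw [hc, pow_succ]; group

theorem comm_pow_right {Q : Type u} [Group Q] {a b c : Q} (hc : a * b * a⁻¹ = c * b)
    (hcb : c * b = b * c) (k : ℕ) : a * b ^ k * a⁻¹ = c ^ k * b ^ k := by
  have h1 : Commute c b := hcb
  rw [← h1.mul_pow, ← hc, conj_pow]

variable {G : Type u} [Group G] [Finite G]

/-- **The count.** -/
theorem card_lin_mul {N J K M : Subgroup G} [hN : N.Normal] [hJ : J.Normal] [hK : K.Normal]
    [hMn : M.Normal] (hJM : J ≤ M) (hMN : M ≤ N) (hab : ⁅N, N⁆ ≤ J)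
    (hJK : ∀ j ∈ J, ∀ l : K →* ℂˣ, cl j l = l) (hM : ∀ t ∈ M, ∀ g : G, t * g * t⁻¹ * g⁻¹ ∈ J)
    (hst : ∀ l : K →* ℂˣ, l ≠ 1 → N ⊓ stab (lf l : K → ℂ) = M)
    (hG : ∀ l : K →* ℂˣ, l ≠ 1 → ∀ g : G, ∃ s ∈ stab (lf l : K → ℂ), ∃ n ∈ N, g = s * n)
    (hcop : (M.relIndex N).Coprime N.index) (hne : ∃ l : K →* ℂˣ, l ≠ 1) :
    ∃ F : Subgroup (K →* ℂˣ), Nat.card (K →* ℂˣ) - 1 =
      (NZ N J).relIndex N * (Nat.card F - 1) := by
  classical
  haveI := finite_lin K
  obtain ⟨l₀, hl₀⟩ := hne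
  set T₀ : Subgroup G := stab (lf l₀ : K → ℂ) with hT₀
  let F : Subgroup (K →* ℂˣ) :=
    { carrier := {l | ∀ t ∈ T₀, cl t l = l}
      one_mem' := fun t _ => cl_hone t
      mul_mem' := fun {a b} ha hb t ht => by rw [cl_hmul, ha t ht, hb t ht]
      inv_mem' := fun {a} ha t ht => by rw [cl_hinv, ha t ht] }
  have hF : ∀ l, l ∈ F ↔ ∀ t ∈ T₀, cl t l = l := fun l => Iff.rfl
  have hB1 : ∀ l ∈ F, l ≠ 1 → stab (lf l : K → ℂ) = T₀ := by
    intro l hl hl1
    refine le_antisymm ?_ ?_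
    · intro s hs
      obtain ⟨s₀, hs₀, n, hn, rfl⟩ := hG l₀ hl₀ s
      have h1 : s₀ ∈ stab (lf l : K → ℂ) := mem_stab_iff.2 ((hF l).1 hl s₀ hs₀)
      have h2 : n ∈ stab (lf l : K → ℂ) := by
        have := (stab (lf l : K → ℂ)).mul_mem ((stab (lf l : K → ℂ)).inv_mem h1) hs
        rwa [inv_mul_cancel_left] at this
      have h3 : n ∈ N ⊓ stab (lf l : K → ℂ) := ⟨hn, h2⟩
      rw [hst l hl1, ← hst l₀ hl₀] at h3
      exact T₀.mul_mem hs₀ h3.2
    · intro t ht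
      exact mem_stab_iff.2 ((hF l).1 hl t ht)
  have hne1 : ∀ (n : G) (l : K →* ℂˣ), l ≠ 1 → cl n l ≠ 1 := by
    intro n l hl e
    apply hl
    have : cl n⁻¹ (cl n l) = 1 := by rw [e, cl_hone]
    rwa [← cl_mul, mul_inv_cancel, cl_one] at this
  have hB2 : ∀ l ∈ F, l ≠ 1 → ∀ n ∈ N, cl n l ∈ F → n ∈ NZ N J := by
    intro l hl hl1 n hn hnl
    have h1 : ∀ t ∈ T₀, n * t * n⁻¹ ∈ T₀ := by
      intro t ht
      rw [← hB1 l hl hl1, mem_stab_iff]
      have h2 := (hF _).1 hnl t ht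
      rw [cl_mul, cl_mul, h2, ← cl_mul, mul_inv_cancel, cl_one]
    have h2 : ∀ t ∈ T₀, n * t * n⁻¹ * t⁻¹ ∈ M := by
      intro t ht
      rw [← hst l₀ hl₀]
      refine ⟨?_, T₀.mul_mem (h1 t ht) (T₀.inv_mem ht)⟩
      have h3 := hN.conj_mem n⁻¹ (N.inv_mem hn) t
      have e : n * t * n⁻¹ * t⁻¹ = n * (t * n⁻¹ * t⁻¹) := by group
      rw [e]
      exact N.mul_mem hn h3
    have h3 : ∀ g : G, n * g * n⁻¹ * g⁻¹ ∈ M := by
      intro g
      obtain ⟨s, hs, m, hm, rfl⟩ := hG l₀ hl₀ g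
      have e : n * (s * m) * n⁻¹ * (s * m)⁻¹ =
          (n * s * n⁻¹ * s⁻¹) * (s * ⁅n, m⁆ * s⁻¹) := by
        rw [commutatorElement_def]; group
      rw [e]
      exact M.mul_mem (h2 s hs) (hMn.conj_mem _ (hJM (hab
        (Subgroup.commutator_mem_commutator hn hm))) s)
    rw [mem_NZ]
    refine ⟨hn, fun g => ?_⟩
    -- coprimality, in `G / J`
    set c : G := n * g * n⁻¹ * g⁻¹ with hc
    have hcM : c ∈ M := h3 g
    have hcen : ∀ y : G, (c : G ⧸ J) * (y : G ⧸ J) = (y : G ⧸ J) * (c : G ⧸ J) := by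
      intro y
      have h4 := hM c hcM y
      rw [← QuotientGroup.eq_one_iff] at h4
      simp only [QuotientGroup.mk_mul, QuotientGroup.mk_inv] at h4
      rw [mul_inv_eq_one, mul_inv_eq_iff_eq_mul] at h4
      exact h4
    have e1 : (n : G ⧸ J) * (g : G ⧸ J) * (n : G ⧸ J)⁻¹ = (c : G ⧸ J) * (g : G ⧸ J) := by
      rw [← QuotientGroup.mk_mul, ← QuotientGroup.mk_inv, ← QuotientGroup.mk_mul,
        ← QuotientGroup.mk_mul, hc]
      congr 1
      group
    have h5 : (c : G ⧸ J) ^ (M.relIndex N) = 1 := by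
      have h6 : n ^ (M.relIndex N) ∈ M := by
        have h7 := Subgroup.pow_index_mem (M.subgroupOf N) (⟨n, hn⟩ : N)
        rw [Subgroup.mem_subgroupOf] at h7
        exact h7
      have h8 := hM _ h6 g
      rw [← QuotientGroup.eq_one_iff] at h8
      simp only [QuotientGroup.mk_mul, QuotientGroup.mk_inv, QuotientGroup.mk_pow] at h8
      rw [comm_pow_left e1 (hcen n).symm, mul_inv_cancel_right] at h8
      exact h8
    have h6 : (c : G ⧸ J) ^ N.index = 1 := by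
      have h7 : g ^ N.index ∈ N := Subgroup.pow_index_mem N g
      have h8 := hab (Subgroup.commutator_mem_commutator hn h7)
      rw [← QuotientGroup.eq_one_iff, commutatorElement_def] at h8
      simp only [QuotientGroup.mk_mul, QuotientGroup.mk_inv, QuotientGroup.mk_pow] at h8
      rw [comm_pow_right e1 (hcen g), mul_inv_cancel_right] at h8
      exact h8
    have h7 : (c : G ⧸ J) = 1 := by
      have h8 := pow_gcd_eq_one.2 ⟨h5, h6⟩
      rwa [hcop.gcd_eq_one, pow_one] at h8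
    exact (QuotientGroup.eq_one_iff c).1 h7
  have hB3 : ∀ l ∈ F, ∀ n ∈ NZ N J, cl n l ∈ F := by
    intro l hl n hn
    rw [hF]
    intro t ht
    have h1 := (mem_NZ.1 hn).2 t
    have e : n * t = (n * t * n⁻¹ * t⁻¹) * (t * n) := by group
    rw [← cl_mul, e, cl_mul, hJK _ h1, cl_mul, (hF l).1 hl t ht]
  have hA : ∀ l : K →* ℂˣ, l ≠ 1 → ∃ n ∈ N, cl n l ∈ F := by
    intro l hl
    obtain ⟨n, hn, h1⟩ := conj_compl hMN (hab.trans hJM) (hst l₀ hl₀) (hG l₀ hl₀) (hst l hl)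
      (hG l hl) hcop
    refine ⟨n, hn, (hF _).2 fun t ht => ?_⟩
    have h2 := mem_stab_iff.1 ((h1 t).1 ht)
    have e : n * t = (n * t * n⁻¹) * n := by group
    rw [← cl_mul, e, cl_mul, h2]
  choose! ν hνN hνF using hA
  -- the bijection
  let X := {l : K →* ℂˣ // l ≠ 1}
  let F' := {l : K →* ℂˣ // l ∈ F ∧ l ≠ 1}
  let Φ : X × NZ N J → N × F' := fun yz =>
    (⟨ν yz.1.1 * yz.2, N.mul_mem (hνN _ yz.1.2) (mem_NZ.1 yz.2.2).1⟩,
      ⟨cl (ν yz.1.1 * yz.2) yz.1.1, by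
        rw [cl_mul]
        exact hB3 _ (hνF _ yz.1.2) _ yz.2.2, hne1 _ _ yz.1.2⟩)
  have hΦ : Function.Bijective Φ := by
    constructor
    · rintro ⟨⟨y, hy⟩, ⟨z, hz⟩⟩ ⟨⟨y', hy'⟩, ⟨z', hz'⟩⟩ he
      have h1 : ν y * z = ν y' * z' := congrArg (fun q => ((q.1 : N) : G)) he
      have h2 : cl (ν y * z) y = cl (ν y' * z') y' := congrArg (fun q => (q.2 : F').1) he
      have h3 : y = y' := by
        rw [← h1] at h2
        have := congrArg (cl (ν y * z)⁻¹) h2
        rwa [← cl_mul, ← cl_mul, mul_inv_cancel, cl_one, cl_one] at this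
      subst h3
      have h4 : z = z' := mul_left_cancel h1
      subst h4
      rfl
    · rintro ⟨⟨n, hn⟩, ⟨l, hl, hl1⟩⟩
      have hy : cl n⁻¹ l ≠ 1 := hne1 _ _ hl1
      have hz : (ν (cl n⁻¹ l))⁻¹ * n ∈ NZ N J := by
        refine hB2 (cl (ν (cl n⁻¹ l)) (cl n⁻¹ l)) (hνF _ hy) (hne1 _ _ hy) _
          (N.mul_mem (N.inv_mem (hνN _ hy)) hn) ?_
        have e : cl ((ν (cl n⁻¹ l))⁻¹ * n) (cl (ν (cl n⁻¹ l)) (cl n⁻¹ l)) = l := by
          rw [← cl_mul, ← cl_mul]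
          have : n⁻¹ * (ν (cl n⁻¹ l) * ((ν (cl n⁻¹ l))⁻¹ * n)) = 1 := by group
          rw [this, cl_one]
        rw [e]
        exact hl
      refine ⟨(⟨cl n⁻¹ l, hy⟩, ⟨_, hz⟩), ?_⟩
      have e1 : ν (cl n⁻¹ l) * ((ν (cl n⁻¹ l))⁻¹ * n) = n := by group
      refine Prod.ext (Subtype.ext e1) (Subtype.ext ?_)
      change cl (ν (cl n⁻¹ l) * ((ν (cl n⁻¹ l))⁻¹ * n)) (cl n⁻¹ l) = l
      rw [e1, ← cl_mul, inv_mul_cancel, cl_one]
  have hcard := Nat.card_congr (Equiv.ofBijective Φ hΦ)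
  rw [Nat.card_prod, Nat.card_prod] at hcard
  have hX : Nat.card X = Nat.card (K →* ℂˣ) - 1 := by
    letI := Fintype.ofFinite (K →* ℂˣ)
    rw [Nat.card_eq_fintype_card, Nat.card_eq_fintype_card]
    have := Fintype.card_subtype_compl (fun l : K →* ℂˣ => l = 1)
    rw [Fintype.card_subtype_eq] at this
    exact this
  have hF' : Nat.card F' = Nat.card F - 1 := by
    letI := Fintype.ofFinite F
    have e : F' ≃ {l : F // l ≠ 1} :=
      { toFun := fun l => ⟨⟨l.1, l.2.1⟩, fun e => l.2.2 (congrArg Subtype.val e)⟩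
        invFun := fun l => ⟨l.1.1, l.1.2, fun e => l.2 (Subtype.ext e)⟩
        left_inv := fun _ => rfl
        right_inv := fun _ => rfl }
    rw [Nat.card_congr e, Nat.card_eq_fintype_card, Nat.card_eq_fintype_card]
    have := Fintype.card_subtype_compl (fun l : F => l = 1)
    rw [Fintype.card_subtype_eq] at this
    exact this
  rw [hX, hF'] at hcard
  refine ⟨F, ?_⟩
  have hN' : Nat.card (NZ N J) * (NZ N J).relIndex N = Nat.card N := by
    have := Subgroup.relIndex_mul_relIndex (⊥ : Subgroup G) (NZ N J) N bot_le inf_le_left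
    rwa [Subgroup.relIndex_bot_left, Subgroup.relIndex_bot_left] at this
  rw [← hN', mul_assoc, mul_comm (Nat.card (K →* ℂˣ) - 1)] at hcard
  exact Nat.eq_of_mul_eq_mul_left Nat.card_pos hcard

/-- The arithmetic of the count. -/
theorem pow_eq_of_count {r c n m n' m' : ℕ} (hr : r.Prime) (hc : 1 < c) (hn : n ≠ 0) (hn' : n' ≠ 0)
    (h : r ^ n - 1 = c * (r ^ m - 1)) (h' : r ^ n' - 1 = c * (r ^ m' - 1)) : n = n' := by
  -- it suffices to show `m = m'`
  have hr1 := hr.one_lt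
  have key : ∀ n m : ℕ, n ≠ 0 → r ^ n - 1 = c * (r ^ m - 1) → m ≠ 0 ∧ m < n ∧
      ((c : ℤ) - 1 = (r : ℤ) ^ m * ((c : ℤ) - (r : ℤ) ^ (n - m))) := by
    intro n m hn h
    have hp1 : 1 ≤ r ^ m := Nat.one_le_pow _ _ hr.pos
    have hp2 : 1 < r ^ n := Nat.one_lt_pow hn hr1
    have hm : m ≠ 0 := by
      rintro rfl
      rw [pow_zero, Nat.sub_self, mul_zero] at h
      omega
    have hp3 : 1 < r ^ m := Nat.one_lt_pow hm hr1
    have hlt : m < n := by
      by_contra hge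
      have h1 : r ^ n ≤ r ^ m := Nat.pow_le_pow_right hr.pos (not_lt.1 hge)
      have h2 : c * (r ^ m - 1) ≥ 2 * (r ^ m - 1) := Nat.mul_le_mul_right _ hc
      omega
    refine ⟨hm, hlt, ?_⟩
    have h1 : ((r : ℤ) ^ n - 1) = c * ((r : ℤ) ^ m - 1) := by
      have h2 : ((r ^ n - 1 : ℕ) : ℤ) = ((c * (r ^ m - 1) : ℕ) : ℤ) := by rw [h]
      rw [Nat.cast_sub hp2.le, Nat.cast_mul, Nat.cast_sub hp1] at h2
      push_cast at h2
      exact h2
    have h3 : (r : ℤ) ^ n = (r : ℤ) ^ m * (r : ℤ) ^ (n - m) := by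
      rw [← pow_add, Nat.add_sub_cancel' hlt.le]
    rw [h3] at h1
    linear_combination h1
  have key2 : ∀ n m n' m' : ℕ, n ≠ 0 → n' ≠ 0 → r ^ n - 1 = c * (r ^ m - 1) →
      r ^ n' - 1 = c * (r ^ m' - 1) → ¬ m < m' := by
    intro n m n' m' hn hn' h h' hlt
    obtain ⟨hm, hmn, e⟩ := key n m hn h
    obtain ⟨hm', hmn', e'⟩ := key n' m' hn' h'
    have hr0 : (r : ℤ) ≠ 0 := by exact_mod_cast hr.ne_zero
    -- `r ∣ c - r ^ (n - m)`, so `r ∣ c`
    have h1 : (r : ℤ) ∣ (c : ℤ) - (r : ℤ) ^ (n - m) := by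
      have h2 : (r : ℤ) ^ m * ((c : ℤ) - (r : ℤ) ^ (n - m)) =
          (r : ℤ) ^ m * ((r : ℤ) ^ (m' - m) * ((c : ℤ) - (r : ℤ) ^ (n' - m'))) := by
        rw [← e, e', ← mul_assoc, ← pow_add, Nat.add_sub_cancel' hlt.le]
      have h3 := mul_left_cancel₀ (pow_ne_zero m hr0) h2
      rw [h3]
      exact (dvd_pow_self _ (Nat.sub_ne_zero_of_lt hlt)).mul_right _
    have h2 : (r : ℤ) ∣ (c : ℤ) := by
      have h3 : (r : ℤ) ∣ (r : ℤ) ^ (n - m) := dvd_pow_self _ (Nat.sub_ne_zero_of_lt hmn)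
      have := dvd_add h1 h3
      rwa [sub_add_cancel] at this
    have h3 : (r : ℤ) ∣ (c : ℤ) - 1 := by
      rw [e]
      exact (dvd_pow_self _ hm).mul_right _
    have h4 : (r : ℤ) ∣ 1 := by
      have := dvd_sub h2 h3
      rwa [sub_sub_cancel] at this
    have h5 : r ∣ 1 := by exact_mod_cast h4
    exact hr.one_lt.ne' (Nat.dvd_one.1 h5)
  have hmm : m = m' :=
    le_antisymm (not_lt.1 (key2 n' m' n m hn' hn h' h)) (not_lt.1 (key2 n m n' m' hn hn' h h'))
  subst hmm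
  have hp2 : 1 < r ^ n := Nat.one_lt_pow hn hr1
  have hp2' : 1 < r ^ n' := Nat.one_lt_pow hn' hr1
  have h3 : r ^ n = r ^ n' := by omega
  exact Nat.pow_right_injective hr.two_le h3

end Cfsg.Agent.H675.Nd
end

-- part: H675/Nd/Main
section
/-!
# `J` is abelian
-/

set_option autoImplicit false
set_option linter.style.haveILetI false
set_option linter.unusedSectionVars false
open Cfsg

namespace Cfsg.Agent.H675.Nd

open Cfsg.Agent.Characters.Core Cfsg.Agent.Characters.Clifford Cfsg.Agent.H672 Cfsg.Agent.H672.RM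
open scoped commutatorElement

universe u v

section map

variable {G : Type u} {G' : Type v} [Group G] [Group G'] [Finite G] [Finite G']

theorem isIrr_map (f : G →* G') (K : Subgroup G) {θ : K.map f → ℂ}
    (hθ : IsIrrCharacter (K.map f) θ) : IsIrrCharacter K (θ ∘ f.subgroupMap K) :=
  isIrr_comp (f.subgroupMap K) (f.subgroupMap_surjective K) hθ

theorem tw_map (f : G →* G') (K : Subgroup G) (θ : K.map f → ℂ) {g : G}
    (hg : g ∈ Subgroup.normalizer (K : Set G))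
    (hg' : f g ∈ Subgroup.normalizer ((K.map f : Subgroup G') : Set G')) :
    tw K g (θ ∘ f.subgroupMap K) = (tw (K.map f) (f g) θ) ∘ f.subgroupMap K := by
  funext k
  rw [tw_apply hg, Function.comp, Function.comp, tw_apply hg']
  congr 1
  apply Subtype.ext
  change f (g * k * g⁻¹) = f g * f k * (f g)⁻¹
  rw [map_mul, map_mul, map_inv]

end map

variable {G : Type u} [Group G] [Finite G] {N J : Subgroup G} {x : G} {p : ℕ}

theorem Hyp.quot (h : Hyp N J x p) (M : Subgroup G) [hM : M.Normal] (hMN : M ≤ N)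
    (hnc : ∃ g : G, x * g * x⁻¹ * g⁻¹ ∉ J ⊔ M) :
    Hyp (N.map (QuotientGroup.mk' M)) (J.map (QuotientGroup.mk' M)) (QuotientGroup.mk' M x) p := by
  haveI := h.nN
  haveI := h.nJ
  have hπ := QuotientGroup.mk'_surjective M
  haveI hNn : (N.map (QuotientGroup.mk' M)).Normal := Subgroup.Normal.map inferInstance _ hπ
  haveI hJn : (J.map (QuotientGroup.mk' M)).Normal := Subgroup.Normal.map inferInstance _ hπ
  have hdeg : ∀ ψ : N.map (QuotientGroup.mk' M) → ℂ,
      charDegree (ψ ∘ (QuotientGroup.mk' M).subgroupMap N) = charDegree ψ := fun ψ =>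
    charDegree_comp_one _ ψ
  have hidx : (N.map (QuotientGroup.mk' M)).index = N.index := by
    rw [Subgroup.index_map, QuotientGroup.ker_mk', sup_of_le_left hMN,
      MonoidHom.range_eq_top.2 hπ, Subgroup.index_top, mul_one]
  refine ⟨hNn, ?_, h.pr, ⟨x, h.xN, rfl⟩, ?_, ?_, ?_, ?_, ?_, ?_, ?_⟩
  · rw [← Subgroup.map_commutator, ← h.eJ]
  · rw [← map_pow, h.xp, map_one]
  · intro hd
    exact h.pJ (hd.trans (Subgroup.card_dvd_of_surjective _
      ((QuotientGroup.mk' M).subgroupMap_surjective J)))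
  · intro μ hμ hx
    have h1 := h.hx _ (isIrr_map (QuotientGroup.mk' M) J hμ) (by
      refine ⟨mem_nrm J x, ?_⟩
      rw [tw_map _ _ _ (mem_nrm J x) (mem_nrm _ _), hx.2])
    exact ((QuotientGroup.mk' M).subgroupMap_surjective J).injective_comp_right (h1.trans rfl)
  · intro ψ hψ hψ1 q
    obtain ⟨g, rfl⟩ := hπ q
    have h1 := h.inv _ (isIrr_map (QuotientGroup.mk' M) N hψ) (by rw [hdeg]; exact hψ1) g
    rw [tw_map _ _ _ (mem_nrm N g) (mem_nrm _ _)] at h1
    exact ((QuotientGroup.mk' M).subgroupMap_surjective N).injective_comp_right h1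
  · intro ψ hψ hψ1
    have h1 := h.cop _ (isIrr_map (QuotientGroup.mk' M) N hψ) (by rw [hdeg]; exact hψ1)
    rw [hidx]
    rwa [hdeg] at h1
  · intro ψ ψ' hψ hψ' hψ1 hψ'1 hd
    have h1 := h.anti _ _ (isIrr_map (QuotientGroup.mk' M) N hψ)
      (isIrr_map (QuotientGroup.mk' M) N hψ') (by rw [hdeg]; exact hψ1) (by rw [hdeg]; exact hψ'1)
      (by rw [hdeg, hdeg]; exact hd)
    rwa [hdeg, hdeg] at h1
  · obtain ⟨g, hg⟩ := hnc
    refine ⟨QuotientGroup.mk' M g, ?_⟩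
    rintro ⟨j, hj, e⟩
    apply hg
    rw [← map_inv, ← map_inv, ← map_mul, ← map_mul, ← map_mul] at e
    have h1 := QuotientGroup.eq.1 e
    have h2 := (J ⊔ M).mul_mem (Subgroup.mem_sup_left hj) (Subgroup.mem_sup_right h1)
    rwa [mul_inv_cancel_left] at h2

theorem normal_of_central' {J T : Subgroup G} (hJT : J ≤ T)
    (h : ∀ t ∈ T, ∀ g : G, t * g * t⁻¹ * g⁻¹ ∈ J) : T.Normal := by
  constructor
  intro t ht g
  have h1 := h t⁻¹ (T.inv_mem ht) g
  rw [inv_inv] at h1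
  have e : g * t * g⁻¹ = t * (t⁻¹ * g * t * g⁻¹) := by group
  rw [e]
  exact T.mul_mem ht (hJT h1)

theorem card_lin_pow {K : Type u} [Group K] [Finite K] {r : ℕ} (hr : r.Prime) (hK : IsPGroup r K)
    (hne : ∃ l : K →* ℂˣ, l ≠ 1) : (∃ a, a ≠ 0 ∧ Nat.card (K →* ℂˣ) = r ^ a) ∧
      ∀ F : Subgroup (K →* ℂˣ), ∃ b, Nat.card F = r ^ b := by
  haveI := Fact.mk hr
  haveI := finite_lin K
  obtain ⟨a, ha⟩ := IsPGroup.iff_card.1 hK
  have hΛ : IsPGroup r (K →* ℂˣ) := by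
    intro m
    refine ⟨a, MonoidHom.ext fun j => ?_⟩
    rw [MonoidHom.pow_apply, ← map_pow, ← ha, pow_card_eq_one', map_one]
    rfl
  obtain ⟨b, hb⟩ := IsPGroup.iff_card.1 hΛ
  refine ⟨⟨b, ?_, hb⟩, fun F => ?_⟩
  · rintro rfl
    rw [pow_zero, Nat.card_eq_one_iff_unique] at hb
    obtain ⟨l, hl⟩ := hne
    exact hl (hb.1.elim l 1)
  · have h1 : Nat.card F ∣ r ^ b := by rw [← hb]; exact Subgroup.card_subgroup_dvd_card F
    obtain ⟨c, -, hc⟩ := (Nat.dvd_prime_pow hr).1 h1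
    exact ⟨c, hc⟩

theorem Min.false (h : Min N J x p) : False := by
  haveI := h.hyp.nJ
  haveI := h.hyp.nN
  obtain ⟨r, hr, hJr⟩ := h.isPGroup
  haveI := Fact.mk hr
  obtain ⟨l₀, hl₀⟩ := h.exists_lin
  have hx : x ∉ NZ N J := by
    intro hx
    obtain ⟨g, hg⟩ := h.hyp.nc
    exact hg ((mem_NZ.1 hx).2 g)
  have hc : 1 < (NZ N J).relIndex N := by
    have h1 : (NZ N J).relIndex N ≠ 0 := Subgroup.index_ne_zero_of_finite
    have h2 : (NZ N J).relIndex N ≠ 1 := by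
      intro e
      exact hx (Subgroup.relIndex_eq_one.1 e h.hyp.xN)
    omega
  -- the count for `J`
  obtain ⟨F, hF⟩ : ∃ F : Subgroup (J →* ℂˣ), Nat.card (J →* ℂˣ) - 1 =
      (NZ N J).relIndex N * (Nat.card F - 1) := by
    haveI hMn : (TL N l₀).Normal := normal_of_central' (h.hyp.inertL l₀).KT (h.hyp.centralL hl₀)
    refine card_lin_mul (M := TL N l₀) (h.hyp.inertL l₀).KT (h.hyp.inertL l₀).TU h.hyp.ab
      (fun j hj l => cl_of_mem hj l) (h.hyp.centralL hl₀) (fun l hl => h.hyp.TL_eq hl hl₀) ?_ ?_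
      ⟨l₀, hl₀⟩
    · intro l hl g
      obtain ⟨ψ, hψ, hψ1, ho, -⟩ := h.hyp.degL hl
      exact exists_mul_stab h.hyp.JN (isIrr_lf l) hψ ho (h.hyp.inv ψ hψ hψ1) g
    · obtain ⟨ψ, hψ, hψ1, ho, hd⟩ := h.hyp.degL hl₀
      rw [← hd]
      exact h.hyp.cop ψ hψ hψ1
  -- the count for `J'`
  obtain ⟨z, hz, hz1⟩ : ∃ z ∈ ⁅J, J⁆, z ≠ 1 := by
    by_contra hcon
    push Not at hcon
    exact h.hne (by rw [eq_bot_iff]; exact fun z hz => Subgroup.mem_bot.2 (hcon z hz))
  obtain ⟨γ₀, -, hγ₀'⟩ := exists_lin_ne (x := (⟨z, hz⟩ : (⁅J, J⁆ : Subgroup G))) bot_le h.GG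
    (by rw [Subgroup.mem_bot]; exact hz1)
  have hγ₀ : γ₀ ≠ 1 := fun e => hγ₀' (by rw [e]; rfl)
  obtain ⟨F', hF'⟩ : ∃ F : Subgroup ((⁅J, J⁆ : Subgroup G) →* ℂˣ),
      Nat.card ((⁅J, J⁆ : Subgroup G) →* ℂˣ) - 1 =
        (NZ N J).relIndex N * (Nat.card F - 1) := by
    have hJM : J ≤ N ⊓ stab (lf γ₀ : (⁅J, J⁆ : Subgroup G) → ℂ) :=
      le_inf h.hyp.JN (h.J_le_stab γ₀)
    haveI hMn : (N ⊓ stab (lf γ₀ : (⁅J, J⁆ : Subgroup G) → ℂ)).Normal :=
      normal_of_central' hJM (h.centralG hγ₀)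
    have hle : ∀ γ γ' : (⁅J, J⁆ : Subgroup G) →* ℂˣ, γ ≠ 1 →
        N ⊓ stab (lf γ : (⁅J, J⁆ : Subgroup G) → ℂ) ≤
        N ⊓ stab (lf γ' : (⁅J, J⁆ : Subgroup G) → ℂ) := by
      intro γ γ' hγ t ht
      exact ⟨ht.1, mem_stab_iff.2 (cl_of_comm (h.TG_comm hγ ht) γ')⟩
    have hψ : ∀ γ : (⁅J, J⁆ : Subgroup G) →* ℂˣ, γ ≠ 1 → ∃ ψ : N → ℂ, IsIrrCharacter N ψ ∧
        charDegree ψ ≠ 1 ∧ Over (Subgroup.inclusion ((comm_le J).trans h.hyp.JN)) ψ (lf γ) := by
      intro γ hγ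
      obtain ⟨μ, hμ, hμo⟩ := exists_over_incl (comm_le J) (isIrr_lf γ)
      obtain ⟨ψ, hψ, hψo⟩ := exists_over_incl h.hyp.JN hμ
      exact ⟨ψ, hψ, h.hyp.nonlin hψ hμ (ne_one_of_deg (h.ne_one hγ hμ hμo)) hψo,
        over_trans (comm_le J) h.hyp.JN hψ hμ (isIrr_lf γ) hψo hμo⟩
    refine card_lin_mul (M := N ⊓ stab (lf γ₀ : (⁅J, J⁆ : Subgroup G) → ℂ)) hJM inf_le_left
      h.hyp.ab (fun j hj γ => mem_stab_iff.1 (h.J_le_stab γ hj)) (h.centralG hγ₀)
      (fun γ hγ => le_antisymm (hle γ γ₀ hγ) (hle γ₀ γ hγ₀)) ?_ ?_ ⟨γ₀, hγ₀⟩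
    · intro γ hγ g
      obtain ⟨ψ, hψ, hψ1, ho⟩ := hψ γ hγ
      exact exists_mul_stab ((comm_le J).trans h.hyp.JN) (isIrr_lf γ) hψ ho (h.hyp.inv ψ hψ hψ1) g
    · obtain ⟨ψ, hψ, hψ1, ho⟩ := hψ γ₀ hγ₀
      have h1 := dvd_of_over ((comm_le J).trans h.hyp.JN) (le_nrm _ N) hψ (isIrr_lf γ₀) ho
      rw [charDegree_lf, mul_one] at h1
      rw [inf_comm, Subgroup.inf_relIndex_right]
      exact (h.hyp.cop ψ hψ hψ1).coprime_dvd_left h1
  have hΓr : IsPGroup r (⁅J, J⁆ : Subgroup G) := hJr.to_le (comm_le J)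
  obtain ⟨⟨a, ha0, ha⟩, hsub⟩ := card_lin_pow hr hJr ⟨l₀, hl₀⟩
  obtain ⟨⟨a', ha0', ha'⟩, hsub'⟩ := card_lin_pow hr hΓr ⟨γ₀, hγ₀⟩
  obtain ⟨b, hb⟩ := hsub F
  obtain ⟨b', hb'⟩ := hsub' F'
  rw [ha, hb] at hF
  rw [ha', hb'] at hF'
  have h1 := pow_eq_of_count hr hc ha0 ha0' hF hF'
  have h2 := h.card_lt
  rw [ha, ha', h1] at h2
  exact lt_irrefl _ h2

/-- **Theorem Y.** -/
theorem thmY (n : ℕ) : ∀ (G : Type u) [Group G] [Finite G] (N J : Subgroup G) (x : G) (p : ℕ),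
    Nat.card G = n → Hyp N J x p → ⁅J, J⁆ = ⊥ := by
  induction n using Nat.strong_induction_on with
  | _ n ih =>
  intro G _ _ N J x p hn h
  by_contra hne
  haveI := h.nJ
  haveI := h.nN
  have hq : ∀ M : Subgroup G, M.Normal → M ≠ ⊥ → M ≤ N →
      (∃ g : G, x * g * x⁻¹ * g⁻¹ ∉ J ⊔ M) → ⁅J, J⁆ ≤ M := by
    intro M hM hM1 hMN hnc
    have h1 := h.quot M hMN hnc
    have hlt : Nat.card (G ⧸ M) < n := by
      rw [← hn, ← Subgroup.index_eq_card, ← M.index_mul_card]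
      refine lt_mul_of_one_lt_right (Nat.pos_of_ne_zero Subgroup.index_ne_zero_of_finite) ?_
      rw [Subgroup.one_lt_card_iff_ne_bot]
      exact hM1
    have h2 := ih _ hlt (G ⧸ M) _ _ _ p rfl h1
    rw [← Subgroup.map_commutator, Subgroup.map_eq_bot_iff, QuotientGroup.ker_mk'] at h2
    exact h2
  refine Min.false (N := N) (J := J) (x := x) (p := p) ⟨h, hne, ?_, ?_⟩
  · intro M hM hM1 hMJ
    obtain ⟨g, hg⟩ := h.nc
    exact hq M hM hM1 (hMJ.trans h.JN) ⟨g, by rwa [sup_of_le_left hMJ]⟩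
  · intro u hu huc r hr hrp hur
    by_contra hu1
    have hun : (Subgroup.zpowers u).Normal := by
      constructor
      rintro _ ⟨i, rfl⟩ g
      have h1 : g * u ^ i = u ^ i * g :=
        Subgroup.mem_center_iff.1 ((Subgroup.center G).zpow_mem huc i) g
      change g * u ^ i * g⁻¹ ∈ _
      rw [h1, mul_inv_cancel_right]
      exact Subgroup.zpow_mem_zpowers u i
    have hnc : ∃ g : G, x * g * x⁻¹ * g⁻¹ ∉ J ⊔ Subgroup.zpowers u := by
      obtain ⟨g, hg⟩ := h.nc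
      refine ⟨g, fun hmem => hg ?_⟩
      obtain ⟨j, hj, w, ⟨i, hw⟩, e⟩ := Subgroup.mem_sup_of_normal_left.1 hmem
      have hw' : u ^ i = w := hw
      have h1 : (w : G ⧸ J) ^ r = 1 := by
        rw [← QuotientGroup.mk_pow, ← hw', ← zpow_natCast, ← zpow_mul, mul_comm, zpow_mul,
          zpow_natCast, hur, one_zpow]
        rfl
      have h2 : ((x * g * x⁻¹ * g⁻¹ : G) : G ⧸ J) = w := by
        rw [← e, QuotientGroup.mk_mul, (QuotientGroup.eq_one_iff j).2 hj, one_mul]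
      have h3 : (w : G ⧸ J) ^ p = 1 := by
        have hy : g * x⁻¹ * g⁻¹ ∈ N := h.nN.conj_mem _ (N.inv_mem h.xN) g
        have h4 : Commute (x : G ⧸ J) ((g * x⁻¹ * g⁻¹ : G) : G ⧸ J) := by
          have h5 := h.ab (Subgroup.commutator_mem_commutator h.xN hy)
          rw [← QuotientGroup.eq_one_iff] at h5
          change QuotientGroup.mk' J ⁅x, g * x⁻¹ * g⁻¹⁆ = 1 at h5
          rw [map_commutatorElement, commutatorElement_eq_one_iff_mul_comm] at h5
          exact h5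
        have h5 : (w : G ⧸ J) = (x : G ⧸ J) * ((g * x⁻¹ * g⁻¹ : G) : G ⧸ J) := by
          rw [← h2, ← QuotientGroup.mk_mul]
          congr 1
          group
        rw [h5, h4.mul_pow, ← QuotientGroup.mk_pow, ← QuotientGroup.mk_pow, h.xp, conj_pow,
          inv_pow, h.xp, inv_one, mul_one, mul_inv_cancel]
        simp
      have h4 : (w : G ⧸ J) = 1 := by
        have h5 := pow_gcd_eq_one.2 ⟨h1, h3⟩
        rwa [((Nat.coprime_primes hr h.pr).2 hrp).gcd_eq_one, pow_one] at h5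
      rw [← QuotientGroup.eq_one_iff, h2, h4]
    have h1 := hq (Subgroup.zpowers u) hun (by rwa [Ne, Subgroup.zpowers_eq_bot])
      (Subgroup.zpowers_le.2 hu) hnc
    apply hne
    rw [eq_bot_iff]
    intro z hz
    rw [Subgroup.mem_bot]
    refine h.fix (comm_le J hz) ?_
    obtain ⟨i, hi⟩ := h1 hz
    have hi' : u ^ i = z := hi
    rw [← hi']
    exact Subgroup.mem_center_iff.1 ((Subgroup.center G).zpow_mem huc i) x

end Cfsg.Agent.H675.Nd
end

-- part: H675/Nd/PN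
section
/-!
# The case of a nonabelian Sylow subgroup
-/

set_option autoImplicit false
set_option linter.style.haveILetI false
set_option linter.unusedSectionVars false
open Cfsg

namespace Cfsg.Agent.H675.Nd

open Cfsg.Agent.Characters.Core Cfsg.Agent.Characters.Clifford Cfsg.Agent.H672 Cfsg.Agent.H672.RM
open Cfsg.Agent.OddOrderCharacters
open scoped commutatorElement

universe u v

variable {G : Type u} [Group G] [Finite G] {N H T : Subgroup G}

/-- A nonlinear irreducible character of `T` trivial on `H`. -/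
theorem exists_nonlin (hHT : H ≤ T) (hT : T ≤ Subgroup.normalizer (H : Set G))
    (hna : ¬ ⁅T, T⁆ ≤ H) : ∃ β : T → ℂ, IsIrrCharacter T β ∧
      (∀ k : H, β (Subgroup.inclusion hHT k) = β 1) ∧ charDegree β ≠ 1 := by
  by_contra hcon
  push Not at hcon
  apply hna
  haveI := normal_subgroupOf hT
  rw [Subgroup.commutator_le]
  intro a ha b hb
  have key : ∀ q q' : T ⧸ H.subgroupOf T, q * q' = q' * q := by
    refine H597.Degrees.comm_of_forall_one fun χ hχ => ?_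
    have h1 := hcon (χ ∘ QuotientGroup.mk' (H.subgroupOf T))
      (isIrr_comp _ (QuotientGroup.mk'_surjective _) hχ) (fun k => by
        have h2 : QuotientGroup.mk' (H.subgroupOf T) (Subgroup.inclusion hHT k) = 1 := by
          rw [QuotientGroup.mk'_apply, QuotientGroup.eq_one_iff, Subgroup.mem_subgroupOf]
          exact k.2
        rw [Function.comp, Function.comp, h2, map_one])
    exact h1
  have h1 := key (⟨a, ha⟩ : T) (⟨b, hb⟩ : T)
  have h2 : QuotientGroup.mk' (H.subgroupOf T) ⁅(⟨a, ha⟩ : T), (⟨b, hb⟩ : T)⁆ = 1 := by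
    rw [map_commutatorElement, commutatorElement_eq_one_iff_mul_comm]
    exact h1
  rw [QuotientGroup.mk'_apply, QuotientGroup.eq_one_iff, Subgroup.mem_subgroupOf] at h2
  exact h2

theorem lin_of_comm (hHT : H ≤ T) (hab : ⁅T, T⁆ ≤ H) {β : T → ℂ} (hβ : IsIrrCharacter T β)
    (hβH : ∀ k : H, β (Subgroup.inclusion hHT k) = β 1) : charDegree β = 1 := by
  obtain ⟨l, rfl⟩ := PF9.CliffGen.exists_hom_of_ker hβ (by
    intro y hy
    have h1 : (y : G) ∈ ⁅T, T⁆ := by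
      rw [← Subgroup.map_subtype_commutator]
      exact ⟨y, hy, rfl⟩
    exact hβH ⟨y, hab h1⟩)
  exact charDegree_lf l

theorem charDegree_one (K : Type v) [Group K] [Finite K] : charDegree (1 : K → ℂ) = 1 :=
  charDegree_of_eq (by simp)

theorem deg_dvd_relIndex (hHT : H ≤ T) (hT : T ≤ Subgroup.normalizer (H : Set G)) {β : T → ℂ}
    (hβ : IsIrrCharacter T β) (hβH : ∀ k : H, β (Subgroup.inclusion hHT k) = β 1) :
    charDegree β ∣ H.relIndex T := by
  have h1 := (div_dvd_of_over hHT hT hβ isIrr_one ((over_one_iff hHT hT hβ).2 hβH)).2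
  rwa [charDegree_one, Nat.div_one] at h1

theorem deg_le_relIndex (hTN : T ≤ N) (hHT : H ≤ T) (hab : ⁅T, T⁆ ≤ H) {β : N → ℂ}
    (hβ : IsIrrCharacter N β) (hβH : ∀ k : H, β (Subgroup.inclusion (hHT.trans hTN) k) = β 1) :
    charDegree β ≤ T.relIndex N := by
  classical
  letI := Fintype.ofFinite N
  obtain ⟨k, hk, hk'⟩ := PF9.CliffGen.degree_le_index (T.subgroupOf N) hβ (by
    intro y hy
    have h1 : (y : G) ∈ ⁅T, T⁆ := by
      have h2 : (y : G) ∈ (⁅T.subgroupOf N, T.subgroupOf N⁆ : Subgroup N).map N.subtype :=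
        ⟨y, hy, rfl⟩
      rw [Subgroup.map_commutator, Subgroup.map_subgroupOf_eq_of_le hTN] at h2
      exact h2
    exact hβH ⟨y, hab h1⟩)
  rw [charDegree_of_eq hk]
  exact hk'

/-- **The nonabelian case**: all nonlinear degrees of `N` coincide. -/
theorem case_nonab [N.Normal] [H.Normal] (hHN : H ≤ N) {p : ℕ} (hp : p.Prime)
    (hcop : (Nat.card H).Coprime p) (hidx : ∃ k, H.relIndex N = p ^ k) (hna : ¬ ⁅N, N⁆ ≤ H)
    (anti : ∀ ψ ψ' : N → ℂ, IsIrrCharacter N ψ → IsIrrCharacter N ψ' → charDegree ψ ≠ 1 →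
      charDegree ψ' ≠ 1 → charDegree ψ ∣ charDegree ψ' → charDegree ψ = charDegree ψ') :
    ∃ m, ∀ ψ : N → ℂ, IsIrrCharacter N ψ → charDegree ψ ≠ 1 → charDegree ψ = m := by
  have hnrm : ∀ U : Subgroup G, U ≤ Subgroup.normalizer (H : Set G) := fun U g _ => by
    rw [Subgroup.normalizer_eq_top]; exact Subgroup.mem_top g
  obtain ⟨k, hk⟩ := hidx
  obtain ⟨β₀, hβ₀, hβ₀H, hβ₀1⟩ := exists_nonlin hHN (hnrm N) hna
  have hm : ∃ i, charDegree β₀ = p ^ i := by
    have h1 := deg_dvd_relIndex hHN (hnrm N) hβ₀ hβ₀H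
    rw [hk] at h1
    obtain ⟨i, -, hi⟩ := (Nat.dvd_prime_pow hp).1 h1
    exact ⟨i, hi⟩
  obtain ⟨i, hi⟩ := hm
  refine ⟨charDegree β₀, fun ψ hψ hψ1 => ?_⟩
  obtain ⟨θ, hθ, ho⟩ := exists_under (f := Subgroup.inclusion hHN) hψ
  have hI : Inert H (N ⊓ stab θ) N θ := ⟨hHN, hnrm N, hθ, rfl⟩
  set T : Subgroup G := N ⊓ stab θ with hT
  have hTidx : H.relIndex T ∣ p ^ k := by
    rw [← hk]
    exact Dvd.intro _ (Subgroup.relIndex_mul_relIndex H T N hI.KT hI.TU)
  obtain ⟨χ, hχ, hχθ⟩ := exists_ext hI.KT hθ hI.Tstab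
    ((hcop.pow_right k).coprime_dvd_right hTidx)
  obtain ⟨η, hη, hηθ, hψη, hd⟩ := hI.exists_eta hψ ho
  obtain ⟨β, ⟨hβ, hβH⟩, hβη⟩ := (gal hI.KT (hnrm T) hθ hχ hχθ).surjOn ⟨hη, hηθ⟩
  have hβη' : β * χ = η := hβη
  have hdη : charDegree η = charDegree β * charDegree χ := by
    rw [← hβη', H597.FrobC.charDegree_mul hχ hβ]
  by_cases hTab : ⁅T, T⁆ ≤ H
  · have h1 := deg_le_relIndex hI.TU hI.KT hTab hβ₀ hβ₀H
    have h2 : T.relIndex N ∣ p ^ k := by
      rw [← hk]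
      exact Dvd.intro_left _ (Subgroup.relIndex_mul_relIndex H T N hI.KT hI.TU)
    obtain ⟨j, -, hj⟩ := (Nat.dvd_prime_pow hp).1 h2
    rw [hi, hj] at h1
    have h3 : i ≤ j := (Nat.pow_le_pow_iff_right hp.one_lt).1 h1
    have h4 : charDegree β₀ ∣ charDegree ψ := by
      rw [hd, hi, hj]
      exact (Nat.pow_dvd_pow p h3).mul_right _
    exact (anti β₀ ψ hβ₀ hψ hβ₀1 hψ1 h4).symm
  · obtain ⟨β', hβ', hβ'H, hβ'1⟩ := exists_nonlin hI.KT (hnrm T) hTab
    have hg1 : IsIrrCharacter T (β' * χ) ∧ Over (Subgroup.inclusion hI.KT) (β' * χ) θ :=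
      (gal hI.KT (hnrm T) hθ hχ hχθ).mapsTo ⟨hβ', hβ'H⟩
    have hg2 : Over (Subgroup.inclusion hI.KT) χ θ := by
      have h1 : IsIrrCharacter T (1 * χ) ∧ Over (Subgroup.inclusion hI.KT) (1 * χ) θ :=
        (gal hI.KT (hnrm T) hθ hχ hχθ).mapsTo ⟨isIrr_one, fun _ => rfl⟩
      rw [one_mul] at h1
      exact h1.2
    obtain ⟨ψ₁, hψ₁, -, -, hd₁⟩ := hI.lift hχ hg2
    obtain ⟨ψ₂, hψ₂, -, -, hd₂⟩ := hI.lift hg1.1 hg1.2
    rw [H597.FrobC.charDegree_mul hχ hβ'] at hd₂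
    have hpos1 : 0 < T.relIndex N := Nat.pos_of_ne_zero Subgroup.index_ne_zero_of_finite
    have hpos2 := charDegree_pos hχ
    have hpos3 := charDegree_pos hβ'
    have hψ₁1 : charDegree ψ₁ = 1 := by
      by_contra hne
      have h2 : charDegree ψ₂ = charDegree ψ₁ * charDegree β' := by rw [hd₁, hd₂]; ring
      have h3 : charDegree ψ₂ ≠ 1 := by
        rw [h2]
        intro e
        exact hne (Nat.eq_one_of_mul_eq_one_right e)
      have h4 := anti ψ₁ ψ₂ hψ₁ hψ₂ hne h3 (by rw [h2]; exact dvd_mul_right _ _)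
      rw [h2] at h4
      apply hβ'1
      have h5 := charDegree_pos hψ₁
      exact Nat.eq_of_mul_eq_mul_left h5 (by rw [← h4, mul_one])
    rw [hψ₁1] at hd₁
    have e1 : T.relIndex N = 1 := Nat.eq_one_of_mul_eq_one_right hd₁.symm
    have e2 : charDegree χ = 1 := Nat.eq_one_of_mul_eq_one_left hd₁.symm
    rw [e1, one_mul, hdη, e2, mul_one] at hd
    have h5 : charDegree β ∣ p ^ k := (deg_dvd_relIndex hI.KT (hnrm T) hβ hβH).trans hTidx
    obtain ⟨j, -, hj⟩ := (Nat.dvd_prime_pow hp).1 h5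
    rcases le_total i j with h6 | h6
    · exact (anti β₀ ψ hβ₀ hψ hβ₀1 hψ1 (by rw [hd, hi, hj]; exact Nat.pow_dvd_pow p h6)).symm
    · exact anti ψ β₀ hψ hβ₀ hψ1 hβ₀1 (by rw [hd, hi, hj]; exact Nat.pow_dvd_pow p h6)

end Cfsg.Agent.H675.Nd
end

-- part: H675/Nd/PA
section
/-!
# The case of an abelian Sylow subgroup: construction of `Hyp`
-/

set_option autoImplicit false
set_option linter.style.haveILetI false
set_option linter.unusedSectionVars false
open Cfsg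

namespace Cfsg.Agent.H675.Nd

open Cfsg.Agent.Characters.Core Cfsg.Agent.Characters.Clifford Cfsg.Agent.H672 Cfsg.Agent.H672.RM
open scoped commutatorElement

universe u v

variable {G : Type u} [Group G] [Finite G] {N H : Subgroup G}

/-- An element `x` of order `p` of `N`, not central modulo `H`. -/
theorem exists_elt [hN : N.Normal] [hH : H.Normal] {p : ℕ} (hp : p.Prime)
    (hcop : (Nat.card H).Coprime p) (hidx : ∃ k, H.relIndex N = p ^ k) (hab : ⁅N, N⁆ ≤ H)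
    (hpf : ¬ p ∣ N.index) (hnc : ∃ n ∈ N, ∃ g : G, n * g * n⁻¹ * g⁻¹ ∉ H) :
    ∃ x ∈ N, x ^ p = 1 ∧ ∃ g : G, x * g * x⁻¹ * g⁻¹ ∉ H := by
  -- commutation modulo `H`
  have hcN : ∀ a ∈ N, ∀ b ∈ N, Commute (a : G ⧸ H) (b : G ⧸ H) := by
    intro a ha b hb
    have h1 := hab (Subgroup.commutator_mem_commutator ha hb)
    rw [← QuotientGroup.eq_one_iff] at h1
    change QuotientGroup.mk' H ⁅a, b⁆ = 1 at h1
    rw [map_commutatorElement, commutatorElement_eq_one_iff_mul_comm] at h1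
    exact h1
  have hcom : ∀ a g : G, a * g * a⁻¹ * g⁻¹ ∈ H ↔ Commute (a : G ⧸ H) (g : G ⧸ H) := by
    intro a g
    rw [← QuotientGroup.eq_one_iff]
    simp only [QuotientGroup.mk_mul, QuotientGroup.mk_inv]
    rw [mul_inv_eq_one, mul_inv_eq_iff_eq_mul]
    exact Iff.rfl
  -- first, `x₀` with `x₀ ^ p ∈ H`
  obtain ⟨x₀, hx₀, hx₀p, g₀, hg₀⟩ : ∃ x ∈ N, x ^ p ∈ H ∧ ∃ g : G, x * g * x⁻¹ * g⁻¹ ∉ H := by
    by_contra hcon
    push Not at hcon
    obtain ⟨n, hn, g, hg⟩ := hnc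
    set d : G := n * g * n⁻¹ * g⁻¹ with hd
    have hdN : d ∈ N := by
      have h1 := hN.conj_mem n⁻¹ (N.inv_mem hn) g
      have e : d = n * (g * n⁻¹ * g⁻¹) := by rw [hd]; group
      rw [e]
      exact N.mul_mem hn h1
    obtain ⟨k, hk⟩ := hidx
    have hdk : (d : G ⧸ H) ^ p ^ k = 1 := by
      have h7 := Subgroup.pow_index_mem (H.subgroupOf N) (⟨d, hdN⟩ : N)
      rw [Subgroup.mem_subgroupOf] at h7
      have h8 : d ^ H.relIndex N ∈ H := h7
      rw [hk, ← QuotientGroup.eq_one_iff, QuotientGroup.mk_pow] at h8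
      exact h8
    have hd1 : (d : G ⧸ H) ≠ 1 := fun e => hg ((QuotientGroup.eq_one_iff d).1 e)
    obtain ⟨j, hj, hj'⟩ : ∃ j, (d : G ⧸ H) ^ p ^ j ≠ 1 ∧ (d : G ⧸ H) ^ p ^ (j + 1) = 1 := by
      by_contra hcon2
      push Not at hcon2
      have h1 : ∀ j, (d : G ⧸ H) ^ p ^ j ≠ 1 := by
        intro j
        induction j with
        | zero => simpa using hd1
        | succ j ih => exact hcon2 j ih
      exact h1 k hdk
    have e1 : (n : G ⧸ H) * (g : G ⧸ H) * (n : G ⧸ H)⁻¹ = (d : G ⧸ H) * (g : G ⧸ H) := by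
      rw [← QuotientGroup.mk_mul, ← QuotientGroup.mk_inv, ← QuotientGroup.mk_mul,
        ← QuotientGroup.mk_mul, hd]
      congr 1
      group
    have e2 := comm_pow_left e1 (hcN n hn d hdN).eq (p ^ j)
    have hy1 : ((d ^ p ^ j : G) : G ⧸ H) ≠ 1 := by rw [QuotientGroup.mk_pow]; exact hj
    have hyp' : ((d ^ p ^ j : G) : G ⧸ H) ^ p = 1 := by
      rw [QuotientGroup.mk_pow, ← pow_mul, ← pow_succ]
      exact hj'
    have hyH : (d ^ p ^ j) ^ p ∈ H := by
      rw [← QuotientGroup.eq_one_iff, QuotientGroup.mk_pow]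
      exact hyp'
    have hyg : Commute ((d ^ p ^ j : G) : G ⧸ H) (g : G ⧸ H) :=
      (hcom _ _).1 (hcon _ (N.pow_mem hdN _) hyH g)
    rw [← QuotientGroup.mk_pow, ← QuotientGroup.mk_pow] at e2
    have e3 := comm_pow_right e2 hyg.eq N.index
    have hgf : g ^ N.index ∈ N := Subgroup.pow_index_mem N g
    have hc2 : Commute ((n ^ p ^ j : G) : G ⧸ H) ((g : G ⧸ H) ^ N.index) :=
      hcN (n ^ p ^ j) (N.pow_mem hn _) _ hgf
    rw [hc2.eq, mul_inv_cancel_right] at e3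
    have h4 : ((d ^ p ^ j : G) : G ⧸ H) ^ N.index = 1 := by
      have := e3.symm
      rwa [mul_eq_right] at this
    apply hy1
    have h5 := pow_gcd_eq_one.2 ⟨hyp', h4⟩
    rwa [((Nat.Prime.coprime_iff_not_dvd hp).2 hpf).gcd_eq_one, pow_one] at h5
  -- now the `p`-part
  obtain ⟨t, ht⟩ := Nat.exists_mul_mod_eq_one_of_coprime hcop hp.one_lt
  refine ⟨x₀ ^ (Nat.card H * t), N.pow_mem hx₀ _, ?_, g₀, ?_⟩
  · have h1 : (x₀ ^ p) ^ Nat.card H = 1 := by
      have := pow_card_eq_one' (x := (⟨x₀ ^ p, hx₀p⟩ : H))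
      exact congrArg Subtype.val this
    rw [← pow_mul, show Nat.card H * t * p = p * Nat.card H * t by ring, pow_mul, pow_mul, h1,
      one_pow]
  · rw [hcom]
    rw [hcom] at hg₀
    intro h1
    apply hg₀
    have h2 : ((x₀ ^ (Nat.card H * t) : G) : G ⧸ H) = x₀ := by
      rw [QuotientGroup.mk_pow]
      have h3 : (x₀ : G ⧸ H) ^ p = 1 := by
        rw [← QuotientGroup.mk_pow]
        exact (QuotientGroup.eq_one_iff _).2 hx₀p
      have h4 : Nat.card H * t ≡ 1 [MOD p] := by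
        rw [Nat.ModEq, ht.2, Nat.mod_eq_of_lt hp.one_lt]
      have h5 : Nat.card H * t ≡ 1 [MOD orderOf (x₀ : G ⧸ H)] :=
        h4.of_dvd (orderOf_dvd_of_pow_eq_one h3)
      rw [pow_eq_pow_iff_modEq.2 h5, pow_one]
    rwa [h2] at h1

/-- Restriction of a character of `U` to a smaller group and class functions. -/
theorem mem_stab_of_res {K U : Subgroup G} [K.Normal] (hKU : K ≤ U) {χ : U → ℂ}
    (hχ : IsIrrCharacter U χ) {θ : K → ℂ} (hθ : ∀ k : K, χ (Subgroup.inclusion hKU k) = θ k) {x : G}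
    (hx : x ∈ U) : x ∈ stab θ := by
  refine ⟨mem_nrm K x, ?_⟩
  funext k
  rw [tw_apply (mem_nrm K x), ← hθ, ← hθ]
  exact isIrr_isClassFunction hχ (Subgroup.inclusion hKU k) ⟨x, hx⟩

/-- **The abelian case**: the hypothesis `Hyp` holds. -/
theorem exists_hyp [hN : N.Normal] [hH : H.Normal] (hHN : H ≤ N) {p : ℕ} (hp : p.Prime)
    (hcop : (Nat.card H).Coprime p) (hidx : ∃ k, H.relIndex N = p ^ k) (hab : ⁅N, N⁆ ≤ H)
    (hpf : ¬ p ∣ N.index) (hnc : ∃ n ∈ N, ∃ g : G, n * g * n⁻¹ * g⁻¹ ∉ H)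
    (hdvd : ∀ ψ : N → ℂ, IsIrrCharacter N ψ → charDegree ψ ≠ 1 → p ∣ charDegree ψ)
    (inv : ∀ ψ : N → ℂ, IsIrrCharacter N ψ → charDegree ψ ≠ 1 → ∀ g : G, tw N g ψ = ψ)
    (cop : ∀ ψ : N → ℂ, IsIrrCharacter N ψ → charDegree ψ ≠ 1 → (charDegree ψ).Coprime N.index)
    (anti : ∀ ψ ψ' : N → ℂ, IsIrrCharacter N ψ → IsIrrCharacter N ψ' → charDegree ψ ≠ 1 →
      charDegree ψ' ≠ 1 → charDegree ψ ∣ charDegree ψ' → charDegree ψ = charDegree ψ') :
    ∃ x, Hyp N ⁅N, N⁆ x p := by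
  classical
  haveI := Fact.mk hp
  obtain ⟨x, hxN, hxp, g₀, hg₀⟩ := exists_elt hp hcop hidx hab hpf hnc
  have hxH : x ∉ H := by
    intro h
    apply hg₀
    have h1 := hH.conj_mem _ (H.inv_mem h) g₀
    have e : x * g₀ * x⁻¹ * g₀⁻¹ = x * (g₀ * x⁻¹ * g₀⁻¹) := by group
    rw [e]
    exact H.mul_mem h h1
  have hJN : ⁅N, N⁆ ≤ N := hab.trans hHN
  obtain ⟨k, hk⟩ := hidx
  -- invariant characters of `H` are linear and trivial on `J`
  have hfix : ∀ θ : H → ℂ, IsIrrCharacter H θ → x ∈ stab θ →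
      charDegree θ = 1 ∧ ∀ j (hj : j ∈ ⁅N, N⁆), θ ⟨j, hab hj⟩ = 1 := by
    intro θ hθ hxθ
    have hI : Inert H (N ⊓ stab θ) N θ := ⟨hHN, le_nrm H N, hθ, rfl⟩
    have hNst : N ≤ stab θ := by
      have hTidx : H.relIndex (N ⊓ stab θ) ∣ p ^ k := by
        rw [← hk]
        exact Dvd.intro _ (Subgroup.relIndex_mul_relIndex H _ N hI.KT hI.TU)
      obtain ⟨χ, hχ, hχθ⟩ := exists_ext hI.KT hθ hI.Tstab
        ((hcop.pow_right k).coprime_dvd_right hTidx)
      by_contra hne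
      apply hg₀
      refine central_of_inv hab hI hχ hχθ (fun ψ hψ ho g => inv ψ hψ ?_ g) x ⟨hxN, hxθ⟩ g₀
      intro h1
      apply hne
      have h2 := dvd_of_over hHN (le_nrm H N) hψ hθ ho
      rw [h1] at h2
      have h3 := Nat.eq_one_of_mul_eq_one_right (Nat.dvd_one.1 h2)
      exact Subgroup.relIndex_eq_one.1 h3
    obtain ⟨χ, hχ, hχθ⟩ := exists_ext hHN hθ hNst (by rw [hk]; exact hcop.pow_right k)
    have hdeg : charDegree χ = charDegree θ := by
      apply charDegree_of_eq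
      rw [coe_charDegree hθ, ← hχθ 1, map_one]
    have h1 : charDegree χ = 1 := by
      by_contra hne
      have h2 := hdvd χ hχ hne
      rw [hdeg] at h2
      have h3 := Nat.Coprime.coprime_dvd_left (degree_dvd_card hθ) hcop
      have h4 := Nat.eq_one_of_dvd_coprimes h3 h2 dvd_rfl
      exact hp.one_lt.ne' h4
    refine ⟨by rw [← hdeg]; exact h1, fun j hj => ?_⟩
    obtain ⟨l, rfl⟩ := exists_hom_of_degree_one hχ h1
    rw [← hχθ]
    have h2 := hom_commutator l hj (hJN hj)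
    change ((l ⟨j, hJN hj⟩ : ℂˣ) : ℂ) = 1
    rw [h2, Units.val_one]
  have hJH : Nat.card (⁅N, N⁆ : Subgroup G) ∣ Nat.card H := Subgroup.card_dvd_of_le hab
  have hx : ∀ μ : (⁅N, N⁆ : Subgroup G) → ℂ, IsIrrCharacter _ μ → x ∈ stab μ → μ = 1 := by
    intro μ hμ hxμ
    have hD : Nat.card (Subgroup.zpowers x) ∣ p := by
      rw [Nat.card_zpowers]; exact orderOf_dvd_of_pow_eq_one hxp
    -- extension to `S = J ⟨x⟩`
    set S : Subgroup G := ⁅N, N⁆ ⊔ Subgroup.zpowers x with hS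
    have hJS : ⁅N, N⁆ ≤ S := le_sup_left
    have hSst : S ≤ stab μ :=
      sup_le (le_stab (isIrr_isClassFunction hμ)) (Subgroup.zpowers_le.2 hxμ)
    have hSidx : (⁅N, N⁆ : Subgroup G).relIndex S ∣ p := by
      rw [hS, sup_comm, Subgroup.relIndex_sup_right]
      exact (Subgroup.relIndex_dvd_card _ _).trans hD
    obtain ⟨μ', hμ', hμ'μ⟩ := exists_ext hJS hμ hSst
      ((hcop.coprime_dvd_left hJH).coprime_dvd_right hSidx)
    -- the group `E = H ⟨x⟩`
    set E : Subgroup G := H ⊔ Subgroup.zpowers x with hE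
    have hHE : H ≤ E := le_sup_left
    have hxE : x ∈ E := Subgroup.mem_sup_right (Subgroup.mem_zpowers x)
    have hxS : x ∈ S := Subgroup.mem_sup_right (Subgroup.mem_zpowers x)
    have hSE : S ≤ E := sup_le_sup_right hab _
    have hEidx : H.relIndex E ∣ p := by
      rw [hE, sup_comm, Subgroup.relIndex_sup_right]
      exact (Subgroup.relIndex_dvd_card _ _).trans hD
    have hpS : p ∣ Nat.card S := by
      have h1 : orderOf x = p := orderOf_eq_prime hxp (fun e => hxH (e ▸ H.one_mem))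
      rw [← h1]
      have h2 := orderOf_dvd_natCard (⟨x, hxS⟩ : S)
      rwa [Subgroup.orderOf_mk] at h2
    have hSEidx : ¬ p ∣ (S.subgroupOf E).index := by
      intro hd
      have h1 : Nat.card S * S.relIndex E = Nat.card E := by
        have := Subgroup.relIndex_mul_relIndex (⊥ : Subgroup G) S E bot_le hSE
        rwa [Subgroup.relIndex_bot_left, Subgroup.relIndex_bot_left] at this
      have h2 : Nat.card H * H.relIndex E = Nat.card E := by
        have := Subgroup.relIndex_mul_relIndex (⊥ : Subgroup G) H E bot_le hHE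
        rwa [Subgroup.relIndex_bot_left, Subgroup.relIndex_bot_left] at this
      have h3 : p * p ∣ Nat.card H * p := by
        have h4 : p * p ∣ Nat.card E := by
          rw [← h1]
          exact Nat.mul_dvd_mul hpS hd
        rw [← h2] at h4
        exact h4.trans (Nat.mul_dvd_mul_left _ hEidx)
      have h4 : p ∣ Nat.card H := Nat.dvd_of_mul_dvd_mul_right hp.pos h3
      exact hp.one_lt.ne' (Nat.eq_one_of_dvd_coprimes hcop h4 dvd_rfl)
    have hμ'd : ¬ p ∣ charDegree μ' := by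
      intro hd
      have h1 : charDegree μ' = charDegree μ := by
        apply charDegree_of_eq
        rw [coe_charDegree hμ, ← hμ'μ 1, map_one]
      rw [h1] at hd
      have h2 : p ∣ Nat.card H := (hd.trans (degree_dvd_card hμ)).trans hJH
      exact hp.one_lt.ne' (Nat.eq_one_of_dvd_coprimes hcop h2 dvd_rfl)
    letI := Fintype.ofFinite E
    letI := Fintype.ofFinite (S.subgroupOf E)
    obtain ⟨χ, hχ, hχμ, hχd⟩ := H597.RelThompson.exists_over_not_dvd p (S.subgroupOf E) hSEidx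
      (isIrr_sub hSE hμ') (by
        have e : charDegree (μ' ∘ Subgroup.subgroupOfEquivOfLe hSE) = charDegree μ' :=
          charDegree_comp_one (Subgroup.subgroupOfEquivOfLe hSE).toMonoidHom μ'
        rw [e]; exact hμ'd)
    have hχo : Over (Subgroup.inclusion hSE) χ μ' :=
      (over_iff_sub hSE χ μ').2 ((over_subtype_iff _ _ _).2 hχμ)
    -- restriction to `H`
    obtain ⟨θ, hθ, hχθ⟩ := exists_under (f := Subgroup.inclusion hHE) hχ
    have hd := div_dvd_of_over hHE (le_nrm H E) hχ hθ hχθ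
    have hdd : charDegree χ / charDegree θ = 1 := by
      rcases (Nat.dvd_prime hp).1 (hd.2.trans hEidx) with h1 | h1
      · exact h1
      · exfalso
        apply hχd
        have h2 : charDegree χ / charDegree θ ∣ charDegree χ := Nat.div_dvd_of_dvd hd.1
        rwa [h1] at h2
    have hde : charDegree θ = charDegree χ := by
      have := Nat.div_mul_cancel hd.1
      rwa [hdd, one_mul] at this
    have hres : χ ∘ Subgroup.inclusion hHE = θ := eq_of_over_of_charDegree_eq hχ hθ hχθ hde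
    have hxθ : x ∈ stab θ := mem_stab_of_res hHE hχ (fun k => congrFun hres k) hxE
    obtain ⟨hθ1, hθJ⟩ := hfix θ hθ hxθ
    -- so `χ` is trivial on `J`
    have hone : χ ∘ Subgroup.inclusion (hJS.trans hSE) = 1 := by
      funext j
      have h1 := congrFun hres ⟨j, hab j.2⟩
      rw [hθJ j j.2] at h1
      exact h1
    have hov : Over (Subgroup.inclusion (hJS.trans hSE)) χ μ := by
      have e : Subgroup.inclusion (hJS.trans hSE) =
          (Subgroup.inclusion hSE).comp (Subgroup.inclusion hJS) := rfl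
      rw [e]
      refine (over_comp_iff _ _ (isIrr_isCharacter hχ) hμ).2 ⟨μ', hμ', hχo, ?_⟩
      letI := Fintype.ofFinite (⁅N, N⁆ : Subgroup G)
      rw [over_iff]
      have e2 : μ' ∘ Subgroup.inclusion hJS = μ := funext hμ'μ
      rw [e2, classInner_irr_self hμ]
      exact one_ne_zero
    by_contra hne
    letI := Fintype.ofFinite (⁅N, N⁆ : Subgroup G)
    rw [over_iff, hone] at hov
    exact hov (classInner_irr_ne isIrr_one hμ (Ne.symm hne))
  refine ⟨x, ⟨hN, rfl, hp, hxN, hxp, ?_, hx, inv, cop, anti, g₀, fun h => hg₀ (hab h)⟩⟩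
  intro hd
  exact hp.one_lt.ne' (Nat.eq_one_of_dvd_coprimes hcop (hd.trans hJH) dvd_rfl)

end Cfsg.Agent.H675.Nd
end

-- part: H675/Nd/Fin
section
/-!
# All nonlinear degrees of `N` coincide
-/

set_option autoImplicit false
set_option linter.style.haveILetI false
set_option linter.unusedSectionVars false
open Cfsg

namespace Cfsg.Agent.H675.Nd

open Cfsg.Agent.Characters.Core Cfsg.Agent.Characters.Clifford Cfsg.Agent.H672 Cfsg.Agent.H672.RM
open scoped commutatorElement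

universe u v

variable {G : Type u} [Group G] [Finite G] {N J : Subgroup G} {x : G} {p : ℕ}

/-- The degree of a nonlinear character of `N`, `J` abelian. -/
theorem Hyp.deg_ab (h : Hyp N J x p) (hJ : ⁅J, J⁆ = ⊥) {ψ : N → ℂ} (hψ : IsIrrCharacter N ψ)
    (h1 : charDegree ψ ≠ 1) : ∃ l : J →* ℂˣ, l ≠ 1 ∧ charDegree ψ = (TL N l).relIndex N := by
  haveI := h.nJ
  haveI := h.nN
  obtain ⟨μ, hμ, ho⟩ := exists_under (f := Subgroup.inclusion h.JN) hψ
  have hμ1 := h.under_ne_one hψ h1 hμ ho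
  have hd : charDegree μ = 1 := by
    refine lin_of_comm (H := (⊥ : Subgroup G)) (T := J) bot_le hJ.le hμ ?_
    rintro ⟨k, hk⟩
    rw [Subgroup.mem_bot] at hk
    subst hk
    rfl
  obtain ⟨l, rfl⟩ := exists_hom_of_degree_one hμ hd
  have hl : l ≠ 1 := by
    rintro rfl
    exact hμ1 rfl
  refine ⟨l, hl, ?_⟩
  have hI := h.inertL l
  obtain ⟨η, hη, hηθ, -, hdψ⟩ := hI.exists_eta hψ ho
  obtain ⟨m, hm⟩ := h.lin_ext hI.TU hI.KT l hI.Tstab
  obtain ⟨β, ⟨hβ, hβH⟩, hβη⟩ := (gal hI.KT (le_nrm J _) (isIrr_lf l) (isIrr_lf m)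
    (fun j => congrArg Units.val (hm j))).surjOn ⟨hη, hηθ⟩
  have hβη' : β * lf m = η := hβη
  have hTab : ⁅TL N l, TL N l⁆ ≤ J := (Subgroup.commutator_mono hI.TU hI.TU).trans h.ab
  have hβ1 := lin_of_comm hI.KT hTab hβ hβH
  have hdη : charDegree η = 1 := by
    rw [← hβη', H597.FrobC.charDegree_mul (isIrr_lf m) hβ, hβ1, charDegree_lf]
  rw [hdψ, hdη, mul_one]

theorem case_ab (h : Hyp N J x p) (hJ : ⁅J, J⁆ = ⊥) :
    ∃ m, ∀ ψ : N → ℂ, IsIrrCharacter N ψ → charDegree ψ ≠ 1 → charDegree ψ = m := by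
  haveI := h.nJ
  by_cases hex : ∃ ψ₀ : N → ℂ, IsIrrCharacter N ψ₀ ∧ charDegree ψ₀ ≠ 1
  · obtain ⟨ψ₀, hψ₀, hd₀⟩ := hex
    refine ⟨charDegree ψ₀, fun ψ hψ hd => ?_⟩
    obtain ⟨l, hl, e⟩ := h.deg_ab hJ hψ hd
    obtain ⟨l₀, hl₀, e₀⟩ := h.deg_ab hJ hψ₀ hd₀
    rw [e, e₀, h.TL_eq hl hl₀]
  · push Not at hex
    exact ⟨1, fun ψ hψ hd => absurd (hex ψ hψ) hd⟩

/-- **The degrees of `N`**: `N ⊴ G` with a normal `p`-complement `H`, `p ∤ |G : N|`; the nonlinear
irreducible characters of `N` are `G`-invariant, of degrees divisible by `p` and prime to `|G : N|`,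
an antichain for divisibility; `N / H` is not central in `G / H`. Then there is only one nonlinear
degree of `N`. -/
theorem one_degree {N H : Subgroup G} [hN : N.Normal] [hH : H.Normal] (hHN : H ≤ N) {p : ℕ}
    (hp : p.Prime) (hcop : (Nat.card H).Coprime p) (hidx : ∃ k, H.relIndex N = p ^ k)
    (hpf : ¬ p ∣ N.index) (hnc : ∃ n ∈ N, ∃ g : G, n * g * n⁻¹ * g⁻¹ ∉ H)
    (hdvd : ∀ ψ : N → ℂ, IsIrrCharacter N ψ → charDegree ψ ≠ 1 → p ∣ charDegree ψ)
    (inv : ∀ ψ : N → ℂ, IsIrrCharacter N ψ → charDegree ψ ≠ 1 → ∀ g : G, tw N g ψ = ψ)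
    (cop : ∀ ψ : N → ℂ, IsIrrCharacter N ψ → charDegree ψ ≠ 1 → (charDegree ψ).Coprime N.index)
    (anti : ∀ ψ ψ' : N → ℂ, IsIrrCharacter N ψ → IsIrrCharacter N ψ' → charDegree ψ ≠ 1 →
      charDegree ψ' ≠ 1 → charDegree ψ ∣ charDegree ψ' → charDegree ψ = charDegree ψ') :
    ∃ m, ∀ ψ : N → ℂ, IsIrrCharacter N ψ → charDegree ψ ≠ 1 → charDegree ψ = m := by
  by_cases hab : ⁅N, N⁆ ≤ H
  · obtain ⟨x, hx⟩ := exists_hyp hHN hp hcop hidx hab hpf hnc hdvd inv cop anti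
    exact case_ab hx (thmY _ G N _ x p rfl hx)
  · exact case_nonab hHN hp hcop hidx hab anti

end Cfsg.Agent.H675.Nd
end

-- part: H672/Solv
section
/-!
# From the relative common-divisor graph to the prime graph
-/

set_option autoImplicit false
set_option linter.style.haveILetI false
set_option linter.unusedSectionVars false
open Cfsg

namespace Cfsg.Agent.H672

open Cfsg.Agent.Characters.Core Cfsg.Agent.Characters.Clifford
open scoped ComplexConjugate

universe u v w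

variable {G : Type u} [Group G] [Finite G]

/-- a linear character is trivial on the commutator subgroup -/
theorem one_lt_of_mem_rel_commutator {d : ℕ} (hd : d ∈ relCharDegrees (commutator G)) : 1 < d := by
  obtain ⟨⟨χ, hχ⟩, ⟨x, hx, hne⟩, rfl⟩ := hd
  dsimp only at hne ⊢
  have h0 := charDegree_pos hχ
  by_contra hcon
  obtain ⟨l, rfl⟩ := exists_hom_of_degree_one hχ (by omega)
  apply hne
  have h1 : x ∈ l.ker := Abelianization.commutator_subset_ker l hx
  rw [lf_apply, lf_apply, MonoidHom.mem_ker.1 h1, map_one]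

/-- the nonlinear degrees are in the relative degree set of the commutator subgroup -/
theorem mem_rel_commutator {d : ℕ} (hd : d ∈ charDegrees G) (h1 : 1 < d) :
    d ∈ relCharDegrees (commutator G) := by
  obtain ⟨⟨χ, hχ⟩, rfl⟩ := hd
  dsimp only at h1 ⊢
  refine ⟨⟨χ, hχ⟩, ?_, rfl⟩
  dsimp only
  by_contra hcon
  push Not at hcon
  have h2 : charDegree χ = 1 := by
    apply charDegree_of_eq
    rw [Nat.cast_one]
    refine CharactersDeep.FeitLinear.apply_one_eq_one (commutator G) ?_ hχ hcon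
    intro x y
    exact Subgroup.commutator_mem_commutator (Subgroup.mem_top x) (Subgroup.mem_top y)
  omega

theorem rel_subset (N : Subgroup G) {d : ℕ} (hd : d ∈ relCharDegrees N) : d ∈ charDegrees G := by
  obtain ⟨χ, -, h⟩ := hd
  exact ⟨χ, h⟩

theorem finite_rel (N : Subgroup G) : (relCharDegrees N).Finite := by
  haveI := finite_irr (G := G)
  refine (Set.finite_range fun χ : IrrCharacter G => charDegree (χ : G → ℂ)).subset ?_
  rintro d ⟨χ, -, h⟩
  exact ⟨χ, h⟩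

theorem prime_conn {p q d : ℕ} (hp : p.Prime) (hq : q.Prime) (hd : d ∈ charDegrees G)
    (h1 : p ∣ d) (h2 : q ∣ d) (hp' : p ∈ degreePrimes G) (hq' : q ∈ degreePrimes G) :
    ((degreeGraph G).induce (degreePrimes G)).Reachable ⟨p, hp'⟩ ⟨q, hq'⟩ := by
  by_cases hpq : p = q
  · subst hpq
    exact SimpleGraph.Reachable.refl _
  · refine SimpleGraph.Adj.reachable ?_
    rw [SimpleGraph.comap_adj]
    exact ⟨hpq, hp, hq, d, hd, ((Nat.coprime_primes hp hq).2 hpq).mul_dvd_of_dvd_of_dvd h1 h2⟩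

theorem card_degreeGraph_le (N : Subgroup G) (hN : N = commutator G) :
    Nat.card ((degreeGraph G).induce (degreePrimes G)).ConnectedComponent ≤
      Nat.card (commonDivisorGraph.induce (relCharDegrees N)).ConnectedComponent := by
  subst hN
  have hmem : ∀ {d : ℕ}, d ∈ relCharDegrees (commutator G) → d.minFac ∈ degreePrimes G :=
    fun {d} hd => ⟨Nat.minFac_prime (one_lt_of_mem_rel_commutator hd).ne',
      d, rel_subset _ hd, Nat.minFac_dvd d⟩
  have hprime : ∀ {d : ℕ}, d ∈ relCharDegrees (commutator G) → d.minFac.Prime := fun hd =>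
    (hmem hd).1
  let g : relCharDegrees (commutator G) →
      ((degreeGraph G).induce (degreePrimes G)).ConnectedComponent := fun d =>
    SimpleGraph.connectedComponentMk _ ⟨d.1.minFac, hmem d.2⟩
  have hg : ∀ (d e : relCharDegrees (commutator G)),
      (commonDivisorGraph.induce (relCharDegrees (commutator G))).Adj d e → g d = g e := by
    rintro ⟨d, hd⟩ ⟨e, he⟩ hde
    rw [SimpleGraph.comap_adj] at hde
    obtain ⟨-, hgcd⟩ := hde
    obtain ⟨r, hr, hr'⟩ := Nat.exists_prime_and_dvd (n := Nat.gcd d e) hgcd.ne'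
    have hrd : r ∣ d := hr'.trans (Nat.gcd_dvd_left _ _)
    have hre : r ∣ e := hr'.trans (Nat.gcd_dvd_right _ _)
    have hrm : r ∈ degreePrimes G := ⟨hr, d, rel_subset _ hd, hrd⟩
    refine SimpleGraph.ConnectedComponent.eq.2 ?_
    exact (prime_conn (hprime hd) hr (rel_subset _ hd) (Nat.minFac_dvd d) hrd (hmem hd) hrm).trans
      (prime_conn hr (hprime he) (rel_subset _ he) hre (Nat.minFac_dvd e) hrm (hmem he))
  have hg' : ∀ (d e : relCharDegrees (commutator G)),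
      (commonDivisorGraph.induce (relCharDegrees (commutator G))).Reachable d e → g d = g e := by
    rintro d e ⟨w⟩
    induction w with
    | nil => rfl
    | cons h _ ih => exact (hg _ _ h).trans ih
  let F : (commonDivisorGraph.induce (relCharDegrees (commutator G))).ConnectedComponent →
      ((degreeGraph G).induce (degreePrimes G)).ConnectedComponent :=
    fun C => g (Quot.out C)
  have hF : Function.Surjective F := by
    intro C
    obtain ⟨⟨p, hp⟩, rfl⟩ := C.exists_rep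
    obtain ⟨hpp, d, hd, hpd⟩ := id hp
    have hd1 : 1 < d := by
      obtain ⟨⟨χ, hχ⟩, rfl⟩ := id hd
      exact lt_of_lt_of_le hpp.one_lt (Nat.le_of_dvd (charDegree_pos hχ) hpd)
    have hd' := mem_rel_commutator hd hd1
    refine ⟨SimpleGraph.connectedComponentMk _ ⟨d, hd'⟩, ?_⟩
    have h1 : g (Quot.out (SimpleGraph.connectedComponentMk
        (commonDivisorGraph.induce (relCharDegrees (commutator G))) ⟨d, hd'⟩)) = g ⟨d, hd'⟩ := by
      apply hg'
      refine SimpleGraph.ConnectedComponent.eq.1 ?_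
      exact Quot.out_eq _
    change g (Quot.out _) = _
    rw [h1]
    exact SimpleGraph.ConnectedComponent.eq.2
      (prime_conn (hprime hd') hpp hd (Nat.minFac_dvd d) hpd (hmem hd') hp)
  haveI : Finite (relCharDegrees (commutator G)) := finite_rel _
  haveI : Finite (commonDivisorGraph.induce (relCharDegrees (commutator G))).ConnectedComponent :=
    Quot.finite _
  exact Nat.card_le_card_of_surjective F hF

theorem card_degreeGraph_le_two [Group.IsSolvable G] :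
    Nat.card ((degreeGraph G).induce (degreePrimes G)).ConnectedComponent ≤ 2 := by
  by_cases h : commutator G = ⊥
  · refine (card_degreeGraph_le _ rfl).trans ?_
    have : IsEmpty (relCharDegrees (commutator G)) := by
      constructor
      rintro ⟨d, ⟨χ, ⟨x, hx, hne⟩, -⟩⟩
      rw [h, Subgroup.mem_bot] at hx
      exact hne (by rw [hx])
    haveI : IsEmpty (commonDivisorGraph.induce (relCharDegrees (commutator G))).ConnectedComponent := by
      constructor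
      intro C
      obtain ⟨v, -⟩ := C.exists_rep
      exact this.false v
    rw [Nat.card_of_isEmpty]
    exact Nat.zero_le _
  · have h1 : ⁅commutator G, commutator G⁆ < commutator G :=
      Group.IsSolvable.commutator_lt_of_ne_bot h
    exact (card_degreeGraph_le _ rfl).trans (card_components_le h1 le_rfl)

end Cfsg.Agent.H672
end

-- part: H675/Nd/Base
section
/-!
# Solvable groups whose nonlinear degrees form an antichain for divisibility
-/

set_option autoImplicit false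
set_option linter.style.haveILetI false
set_option linter.unusedSectionVars false
open Cfsg

namespace Cfsg.Agent.H675.Nd

open Cfsg.Agent.Characters.Core Cfsg.Agent.Characters.Clifford Cfsg.Agent.H672 Cfsg.Agent.H672.RM
open Cfsg.Agent.H597.FrobA
open scoped commutatorElement

universe u v

/-- No nonlinear degree divides a larger degree. -/
def Anti (G : Type u) [Group G] : Prop :=
  ∀ χ χ' : G → ℂ, IsIrrCharacter G χ → IsIrrCharacter G χ' → charDegree χ ≠ 1 →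
    charDegree χ ∣ charDegree χ' → charDegree χ = charDegree χ'

variable {G : Type u} [Group G] [Finite G]

theorem anti_of (hnd : ∀ a ∈ charDegrees G, ∀ b ∈ charDegrees G, 1 < a → a < b → ¬ a ∣ b) :
    Anti G := by
  intro χ χ' hχ hχ' h1 hd
  have hp := charDegree_pos hχ
  have hp' := charDegree_pos hχ'
  by_contra hne
  refine hnd _ ⟨⟨χ, hχ⟩, rfl⟩ _ ⟨⟨χ', hχ'⟩, rfl⟩ (by dsimp only; omega) ?_ hd
  exact lt_of_le_of_ne (Nat.le_of_dvd hp' hd) hne

/-- The quotient dichotomy. -/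
theorem dich [Group.IsSolvable G] (hab : commutator G ≠ ⊥) : ∃ r : ℕ, r.Prime ∧
    ((∃ K : Subgroup G, K.Normal ∧ (∃ k, K.index = r ^ k) ∧ ∃ β : G → ℂ, IsIrrCharacter G β ∧
      charDegree β ≠ 1 ∧ (∀ x ∈ K, β x = β 1) ∧ ∃ j, charDegree β = r ^ j) ∨
    ∃ K N : Subgroup G, K.Normal ∧ N.Normal ∧ FrobQ K N r) := by
  classical
  obtain ⟨K, hKmax⟩ := (Set.toFinite {K : Subgroup G | K.Normal ∧ ¬ commutator G ≤ K}).exists_maximal
    ⟨⊥, inferInstance, fun h => hab (le_bot_iff.1 h)⟩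
  have hKn : K.Normal := hKmax.prop.1
  obtain ⟨r, hr, ⟨k, hk⟩ | ⟨N, hN, hF⟩⟩ := dichotomy_quot K inferInstance hKmax.prop.2 (by
    intro L hL hKL
    by_contra hcon
    exact hKL.not_ge (hKmax.le_of_ge (y := L) ⟨hL, hcon⟩ hKL.le))
  · have hex : ∃ θ : (G ⧸ K) → ℂ, IsIrrCharacter (G ⧸ K) θ ∧ charDegree θ ≠ 1 := by
      by_contra hcon
      push Not at hcon
      have h0 := H597.Degrees.comm_of_forall_one hcon
      apply hKmax.prop.2
      rw [_root_.commutator_def, Subgroup.commutator_le]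
      intro a _ b _
      rw [← QuotientGroup.eq_one_iff]
      change QuotientGroup.mk' K ⁅a, b⁆ = 1
      rw [map_commutatorElement, commutatorElement_eq_one_iff_mul_comm]
      exact h0 _ _
    obtain ⟨θ, hθ, hθ1⟩ := hex
    have hβ : IsIrrCharacter G (θ ∘ QuotientGroup.mk' K) :=
      isIrr_comp _ (QuotientGroup.mk'_surjective K) hθ
    have hβd : charDegree (θ ∘ QuotientGroup.mk' K) = charDegree θ :=
      charDegree_comp_one (QuotientGroup.mk' K) θ
    have hdvd : charDegree θ ∣ r ^ k := by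
      rw [← hk, Subgroup.index_eq_card]
      exact degree_dvd_card hθ
    obtain ⟨j, -, hj⟩ := (Nat.dvd_prime_pow hr).1 hdvd
    refine ⟨r, hr, Or.inl ⟨K, hKn, ⟨k, hk⟩, _, hβ, by rw [hβd]; exact hθ1, fun x hx => ?_, j,
      by rw [hβd, hj]⟩⟩
    rw [Function.comp_apply, Function.comp_apply, map_one]
    congr 1
    exact (QuotientGroup.eq_one_iff x).2 hx
  · exact ⟨r, hr, Or.inr ⟨K, N, hKn, hN, hF⟩⟩

/-- In the first case of the dichotomy, all nonlinear degrees are divisible by `r`. -/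
theorem typeP (ha : Anti G) {r : ℕ} (hr : r.Prime) {K : Subgroup G} [K.Normal] {k : ℕ}
    (hK : K.index = r ^ k) {β : G → ℂ} (hβ : IsIrrCharacter G β) (hβ1 : charDegree β ≠ 1)
    (hβK : ∀ x ∈ K, β x = β 1) {χ : G → ℂ} (hχ : IsIrrCharacter G χ) (hχ1 : charDegree χ ≠ 1) :
    r ∣ charDegree χ := by
  letI := Fintype.ofFinite G
  by_contra hχq
  have h1 := H597.Degrees.isIrr_restrict_of_coprime K hχ (by
    rw [hK]
    exact Nat.Coprime.pow_left _ ((hr.coprime_iff_not_dvd).2 hχq))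
  have h2 := H597.FrobC.isIrr_mul_of_restrict K hχ h1 hβ hβK
  have h3 := H597.FrobC.charDegree_mul hχ hβ
  have h4 := ha χ _ hχ h2 hχ1 (by rw [h3]; exact Dvd.intro_left _ rfl)
  rw [h3] at h4
  have hp := charDegree_pos hχ
  exact hβ1 (Nat.eq_of_mul_eq_mul_right hp (by rw [← h4, one_mul]))

section frob

variable {K N : Subgroup G} [hK : K.Normal] [hN : N.Normal] {r : ℕ}

theorem one_lt_index (hF : FrobQ K N r) : 1 < N.index := by
  have h1 : N.index ≠ 0 := Subgroup.index_ne_zero_of_finite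
  have h2 : N.index ≠ 1 := fun h => hF.ne_top (Subgroup.index_eq_one.1 h)
  omega

theorem exists_index_degree (hF : FrobQ K N r) :
    ∃ χ : G → ℂ, IsIrrCharacter G χ ∧ charDegree χ = N.index := by
  letI := Fintype.ofFinite G
  obtain ⟨x, hxN, hxK⟩ := SetLike.exists_of_lt hF.lt
  obtain ⟨χ, hχ, hd⟩ := H597.FrobB.exists_degree_mul hF (ψ := 1) isIrr_one (n₀ := ⟨x, hxN⟩)
    hxK one_ne_zero
  rw [charDegree_one, mul_one] at hd
  exact ⟨χ, hχ, hd⟩

/-- nonlinear characters of `N` have degree divisible by `r`. -/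
theorem dvd_of_nonlin (ha : Anti G) (hr : r.Prime) (hF : FrobQ K N r) {ψ : N → ℂ}
    (hψ : IsIrrCharacter N ψ) (hψ1 : charDegree ψ ≠ 1) : r ∣ charDegree ψ := by
  letI := Fintype.ofFinite G
  obtain ⟨k, hk⟩ := hF.rel
  have hKN : K.subgroupOf N ≠ ⊤ := by
    rw [Ne, Subgroup.subgroupOf_eq_top]
    exact hF.lt.not_ge
  by_cases hv : ∀ n : N, (n : G) ∉ K → ψ n = 0
  · exact H597.FrobC.dvd_of_vanish hr (K.subgroupOf N) hk hKN hψ
      (fun n hn => hv n (fun h => hn (Subgroup.mem_subgroupOf.2 h)))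
  · push Not at hv
    obtain ⟨n, hn, hne⟩ := hv
    obtain ⟨χ, hχ, hd⟩ := H597.FrobB.exists_degree_mul hF hψ hn hne
    obtain ⟨χ', hχ', hd'⟩ := exists_index_degree hF
    have hf := one_lt_index hF
    have h4 := ha χ' χ hχ' hχ (by omega) (by rw [hd, hd']; exact Dvd.intro _ rfl)
    rw [hd, hd'] at h4
    exfalso
    exact hψ1 (Nat.eq_of_mul_eq_mul_left (show 0 < N.index by omega) (by rw [← h4, mul_one]))

/-- The degrees of `G`. -/
theorem cases_degree (ha : Anti G) (hr : r.Prime) (hF : FrobQ K N r) {χ : G → ℂ}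
    (hχ : IsIrrCharacter G χ) : charDegree χ = 1 ∨ charDegree χ = N.index ∨
      (charDegree χ ≠ 1 ∧ r ∣ charDegree χ) := by
  obtain ⟨ψ, hψ, ⟨c, hc, hc'⟩, -⟩ := H597.ThreeDegB.exists_under N hχ
  by_cases hψ1 : charDegree ψ = 1
  · rw [hψ1, one_mul] at hc
    by_cases h1 : charDegree χ = 1
    · exact Or.inl h1
    · obtain ⟨χ', hχ', hd'⟩ := exists_index_degree hF
      right; left
      rw [← hd']
      exact ha χ χ' hχ hχ' h1 (by rw [hc, hd']; exact hc')
  · have h1 := dvd_of_nonlin ha hr hF hψ hψ1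
    have h2 : r ∣ charDegree χ := hc ▸ Dvd.dvd.mul_right h1 c
    refine Or.inr (Or.inr ⟨fun h => ?_, h2⟩)
    rw [h] at h2
    exact hr.one_lt.ne' (Nat.dvd_one.1 h2)

/-- characters of `G` nontrivial on `N'`. -/
theorem dvd_of_nontriv (ha : Anti G) (hr : r.Prime) (hF : FrobQ K N r) {χ : G → ℂ}
    (hχ : IsIrrCharacter G χ) (hx : ∃ x ∈ ⁅N, N⁆, χ x ≠ χ 1) : r ∣ charDegree χ := by
  obtain ⟨x, hx, hne⟩ := hx
  have hxN : x ∈ N := Subgroup.commutator_le_left N N hx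
  obtain ⟨ψ, hψ, ⟨c, hc, -⟩, hψx⟩ := H597.ThreeDegB.exists_under_ne N hχ (x := ⟨x, hxN⟩) hne
  rw [hc]
  refine Dvd.dvd.mul_right (dvd_of_nonlin ha hr hF hψ (fun h1 => hψx ?_)) c
  exact H597.Taketa.commutator_le_ker_of_linear hψ h1 _
    ((H597.IndexP.mem_commutator_iff N).2 hx)

/-- `O^r(N) ≤ K`. -/
theorem Op_le_K (hF : FrobQ K N r) : H597.RelThompson.Op r N ≤ K := by
  obtain ⟨k, hk⟩ := hF.rel
  unfold H597.RelThompson.Op
  rw [Subgroup.closure_le]
  rintro g ⟨hg, hg'⟩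
  have h7 := Subgroup.pow_index_mem (K.subgroupOf N) (⟨g, hg⟩ : N)
  rw [Subgroup.mem_subgroupOf] at h7
  have h8 : g ^ K.relIndex N ∈ K := h7
  rw [hk, ← QuotientGroup.eq_one_iff, QuotientGroup.mk_pow] at h8
  have h9 : (g : G ⧸ K) ^ orderOf g = 1 := by
    rw [← QuotientGroup.mk_pow, pow_orderOf_eq_one, QuotientGroup.mk_one]
  have h5 := pow_gcd_eq_one.2 ⟨h8, h9⟩
  rw [(hg'.symm.pow_left k).gcd_eq_one, pow_one] at h5
  exact (QuotientGroup.eq_one_iff g).1 h5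

theorem Op_nc (hF : FrobQ K N r) :
    ∃ n ∈ N, ∃ g : G, n * g * n⁻¹ * g⁻¹ ∉ H597.RelThompson.Op r N := by
  obtain ⟨n, hnN, hnK⟩ := SetLike.exists_of_lt hF.lt
  obtain ⟨g, hg⟩ : ∃ g, g ∉ N := by
    by_contra hcon
    push Not at hcon
    exact hF.ne_top (eq_top_iff.2 fun g _ => hcon g)
  refine ⟨n, hnN, g, fun h => hnK (hF.fpf g hg n hnN ?_)⟩
  have h1 := K.inv_mem (Op_le_K hF h)
  have e : (n * g * n⁻¹ * g⁻¹)⁻¹ = g * n * g⁻¹ * n⁻¹ := by group
  rwa [e] at h1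

theorem Op_coprime (ha : Anti G) (hr : r.Prime) (hF : FrobQ K N r) :
    (Nat.card (H597.RelThompson.Op r N)).Coprime r :=
  H597.RelThompson.card_Op_coprime r hr N (fun _ hχ hx => dvd_of_nontriv ha hr hF hχ hx)

/-- If the degrees divisible by `r` are prime to `|G : N|`, all of them are equal. -/
theorem one_degree_of_coprime (ha : Anti G) (hr : r.Prime) (hF : FrobQ K N r)
    (hcop : ∀ χ : G → ℂ, IsIrrCharacter G χ → r ∣ charDegree χ → N.index.Coprime (charDegree χ)) :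
    ∃ m, ∀ χ : G → ℂ, IsIrrCharacter G χ → r ∣ charDegree χ → charDegree χ = m := by
  classical
  letI := Fintype.ofFinite G
  haveI := Fact.mk hr
  -- characters of `N`
  have key : ∀ ψ : N → ℂ, IsIrrCharacter N ψ → charDegree ψ ≠ 1 →
      ∃ χ : G → ℂ, IsIrrCharacter G χ ∧ (∀ n : N, χ n = ψ n) ∧ charDegree χ = charDegree ψ := by
    intro ψ hψ hψ1
    obtain ⟨χ, hχ, ho⟩ := exists_over_subtype N hψ
    obtain ⟨h1, h2⟩ := charDegree_dvd_of_over N hχ hψ ho
    have h3 : r ∣ charDegree χ := (dvd_of_nonlin ha hr hF hψ hψ1).trans h1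
    have h4 : charDegree χ / charDegree ψ ∣ charDegree χ := Nat.div_dvd_of_dvd h1
    have h5 := Nat.eq_one_of_dvd_coprimes (hcop χ hχ h3) h2 h4
    have h6 : charDegree ψ = charDegree χ := by
      have := Nat.div_mul_cancel h1
      rwa [h5, one_mul] at this
    have h7 := eq_of_over_of_charDegree_eq hχ hψ ho h6
    exact ⟨χ, hχ, fun n => congrFun h7 n, h6.symm⟩
  obtain ⟨m, hm⟩ := one_degree (H597.RelThompson.Op_le r N) hr (Op_coprime ha hr hF)
    (H597.RelThompson.relIndex_Op r N) hF.idx (Op_nc hF)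
    (fun ψ hψ hψ1 => dvd_of_nonlin ha hr hF hψ hψ1)
    (fun ψ hψ hψ1 g => by
      obtain ⟨χ, hχ, hres, -⟩ := key ψ hψ hψ1
      funext n
      rw [tw_apply (mem_nrm N g), ← hres, ← hres]
      exact isIrr_isClassFunction hχ (n : G) g)
    (fun ψ hψ hψ1 => by
      obtain ⟨χ, hχ, -, hd⟩ := key ψ hψ hψ1
      rw [← hd]
      exact (hcop χ hχ (hd ▸ dvd_of_nonlin ha hr hF hψ hψ1)).symm)
    (fun ψ ψ' hψ hψ' hψ1 hψ'1 hdd => by
      obtain ⟨χ, hχ, -, hd⟩ := key ψ hψ hψ1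
      obtain ⟨χ', hχ', -, hd'⟩ := key ψ' hψ' hψ'1
      rw [← hd, ← hd']
      exact ha χ χ' hχ hχ' (by rwa [hd]) (by rwa [hd, hd']))
  refine ⟨m, fun χ hχ hrχ => ?_⟩
  have h1 := H597.Degrees.isIrr_restrict_of_coprime N hχ (hcop χ hχ hrχ)
  have h2 : charDegree (fun n : N => χ n) = charDegree χ := charDegree_comp_one N.subtype χ
  rw [← h2]
  refine hm _ h1 ?_
  rw [h2]
  intro h
  rw [h] at hrχ
  exact hr.one_lt.ne' (Nat.dvd_one.1 hrχ)

end frob

end Cfsg.Agent.H675.Nd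
end
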